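/-
Subfield subgroups of odd orthogonal groups in small dimensions: rational Eichler elements.
-/
import Cfsg.Agent.Lib.Classical.OInUTools
import Cfsg.Agent.Lib.Classical.OrthNotMax

set_option autoImplicit false
set_option linter.unusedSectionVars false
set_option linter.style.haveILetI false

namespace Cfsg.Agent.Classical.OSub7

open Matrix Cfsg.Geo
open Cfsg.Agent.Classical

variable {ι : Type} [Fintype ι] [DecidableEq ι] {F : Type*} [Field F] {F₀ : Subfield F}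
  {Q : (ι → F) → F} {T : (ι → F₀) → ι → F} {Q₀ : (ι → F₀) → F₀} {K : Subgroup (GL ι F)}

/-- The polar form. -/
local notation "⟪" x ", " y "⟫" => QuadraticMap.polar Q x y

/-- The rational polar form. -/
local notation "⟪" x ", " y "⟫₀" => QuadraticMap.polar Q₀ x y

/-- The Eichler element with centre `a` and vector `y` lies in the group. -/
def InE (Q : (ι → F) → F) (K : Subgroup (GL ι F)) (a y : ι → F) : Prop :=
  ∃ k ∈ K, ∀ x, (k : Matrix ι ι F) *ᵥ x = eichler Q a y x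

/-- The setting. -/
structure Setup (Q : (ι → F) → F) (T : (ι → F₀) → ι → F) (Q₀ : (ι → F₀) → F₀) (K : Subgroup (GL ι F)) : Prop where
  hQ : IsNondegenerateQuadraticForm Q
  D : OSim.Data Q₀
  big : 7 ≤ Fintype.card ι
  two : (2 : F) ≠ 0
  T_add : ∀ u w, T (u + w) = T u + T w
  T_smul : ∀ (c : F₀) u, T (c • u) = (c : F) • T u
  T_span : ∀ v : ι → F, ∃ μ : ι → F, v = ∑ i, μ i • T (Pi.single i 1)
  hT : ∀ u, Q (T u) = (Q₀ u : F)
  iso : ∀ k ∈ K, ∀ x, Q ((k : Matrix ι ι F) *ᵥ x) = Q x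
  base : ∀ a y, Q₀ a = 0 → QuadraticMap.polar Q₀ a y = 0 → InE Q K (T a) (T y)

variable (S : Setup Q T Q₀ K)

include S

theorem B_symm (x y : ι → F) : ⟪x, y⟫ = ⟪y, x⟫ := QuadraticMap.polar_comm _ _ _

theorem add_left (x y z : ι → F) : ⟪x + y, z⟫ = ⟪x, z⟫ + ⟪y, z⟫ := S.hQ.polar_bilinear.add_left x y z

theorem smul_left (c : F) (x z : ι → F) : ⟪c • x, z⟫ = c * ⟪x, z⟫ := S.hQ.polar_bilinear.smul_left c x z

theorem add_right (x y z : ι → F) : ⟪x, y + z⟫ = ⟪x, y⟫ + ⟪x, z⟫ := S.hQ.polar_bilinear.add_right x y z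

theorem smul_right (c : F) (x z : ι → F) : ⟪x, c • z⟫ = c * ⟪x, z⟫ := S.hQ.polar_bilinear.smul_right c x z

theorem zero_left (z : ι → F) : ⟪0, z⟫ = 0 := by rw [← zero_smul F (0 : ι → F), smul_left S, zero_mul]

theorem zero_right (z : ι → F) : ⟪z, 0⟫ = 0 := by rw [← zero_smul F (0 : ι → F), smul_right S, zero_mul]

theorem neg_left (x z : ι → F) : ⟪-x, z⟫ = -⟪x, z⟫ := by rw [← neg_one_smul F x, smul_left S, neg_one_mul]

theorem neg_right (x z : ι → F) : ⟪x, -z⟫ = -⟪x, z⟫ := by rw [← neg_one_smul F z, smul_right S, neg_one_mul]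

theorem sub_left (x y z : ι → F) : ⟪x - y, z⟫ = ⟪x, z⟫ - ⟪y, z⟫ := by
  rw [sub_eq_add_neg, add_left S, neg_left S, sub_eq_add_neg]

theorem sub_right (x y z : ι → F) : ⟪x, y - z⟫ = ⟪x, y⟫ - ⟪x, z⟫ := by
  rw [sub_eq_add_neg, add_right S, neg_right S, sub_eq_add_neg]

theorem self_eq (x : ι → F) : ⟪x, x⟫ = 2 * Q x := polar_self_eq S.hQ x

theorem self_zero {x : ι → F} (h : Q x = 0) : ⟪x, x⟫ = 0 := by rw [self_eq S, h, mul_zero]

theorem quad_neg (x : ι → F) : Q (-x) = Q x := by rw [← neg_one_smul F x, S.hQ.smul]; ring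

theorem T_zero : T 0 = 0 := by rw [← zero_smul F₀ (0 : ι → F₀), S.T_smul, Subfield.coe_zero, zero_smul]

theorem T_neg (u : ι → F₀) : T (-u) = -T u := by
  rw [← neg_one_smul F₀ u, S.T_smul, Subfield.coe_neg, Subfield.coe_one, neg_one_smul]

theorem T_sub (u w : ι → F₀) : T (u - w) = T u - T w := by
  rw [sub_eq_add_neg, S.T_add, T_neg S, sub_eq_add_neg]

theorem T_polar (u w : ι → F₀) : ⟪T u, T w⟫ = ((⟪u, w⟫₀ : F₀) : F) := by
  simp only [QuadraticMap.polar, ← S.T_add, S.hT, Subfield.coe_sub]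

theorem T_orth {u w : ι → F₀} (h : ⟪u, w⟫₀ = 0) : ⟪T u, T w⟫ = 0 := by rw [T_polar S, h]; rfl

theorem T_iso {u : ι → F₀} (h : Q₀ u = 0) : Q (T u) = 0 := by rw [S.hT, h]; rfl

theorem eq_zero_of_perp {v : ι → F} (h : ∀ u, ⟪v, T u⟫ = 0) : v = 0 := by
  by_contra hv
  obtain ⟨x, hx⟩ := (S.hQ.nondegenerate v hv).2
  obtain ⟨μ, rfl⟩ := S.T_span x
  refine hx ?_
  let L : (ι → F) →ₗ[F] F :=
    { toFun := fun y => ⟪v, y⟫, map_add' := fun a b => add_right S v a b,
      map_smul' := fun c y => smul_right S c v y }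
  change L _ = 0
  rw [map_sum]
  refine Finset.sum_eq_zero fun i _ => ?_
  rw [map_smul]
  change μ i • ⟪v, _⟫ = 0
  rw [h, smul_zero]

/-- A vector pairing rationally with all rational vectors is rational. -/
theorem exists_real {v : ι → F} (h : ∀ u, ⟪v, T u⟫ ∈ F₀) : ∃ w, v = T w := by
  obtain ⟨w, hw⟩ := OSim.exists_rep S.D
    { toFun := fun u => (⟨⟪v, T u⟫, h u⟩ : F₀)
      map_add' := fun u u' => Subtype.ext (by simp only [S.T_add, add_right S, Subfield.coe_add])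
      map_smul' := fun c u => Subtype.ext (by simp only [S.T_smul, smul_right S, RingHom.id_apply, smul_eq_mul,
        Subfield.coe_mul]) }
  refine ⟨w, sub_eq_zero.mp (eq_zero_of_perp S fun u => ?_)⟩
  have e := congrArg Subtype.val (hw u)
  rw [sub_left S, T_polar S, OSim.symm S.D w u, e]
  exact sub_self _

theorem T_injective {u : ι → F₀} (h : T u = 0) : u = 0 :=
  OSim.eq_zero_of_perp S.D fun x => Subtype.ext (by rw [← T_polar S, h, zero_right S]; rfl)

theorem iso_polar {k : GL ι F} (hk : k ∈ K) (x y : ι → F) :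
    ⟪(k : Matrix ι ι F) *ᵥ x, (k : Matrix ι ι F) *ᵥ y⟫ = ⟪x, y⟫ := by
  simp only [QuadraticMap.polar, ← Matrix.mulVec_add, S.iso k hk]

theorem conj_polar {k : GL ι F} (hk : k ∈ K) (x y : ι → F) :
    ⟪((k⁻¹ : GL ι F) : Matrix ι ι F) *ᵥ x, y⟫ = ⟪x, (k : Matrix ι ι F) *ᵥ y⟫ := by
  rw [← iso_polar S hk, gl_mulVec_inv_cancel]

theorem InE.conj {a y : ι → F} (h : InE Q K a y) {k : GL ι F} (hk : k ∈ K) :
    InE Q K ((k : Matrix ι ι F) *ᵥ a) ((k : Matrix ι ι F) *ᵥ y) := by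
  obtain ⟨g, hg, hgv⟩ := h
  refine ⟨k * g * k⁻¹, mul_mem (mul_mem hk hg) (inv_mem hk), fun x => ?_⟩
  rw [gl_mul_mulVec, gl_mul_mulVec, hgv, eichler, eichler, Matrix.mulVec_sub, Matrix.mulVec_add,
    gl_mulVec_inv_cancel, Matrix.mulVec_smul, Matrix.mulVec_smul, conj_polar S hk, conj_polar S hk, S.iso k hk]

theorem eichler_zero (a x : ι → F) : eichler Q a 0 x = x := by
  simp [eichler, zero_right S, quad_zero S.hQ]

theorem inE_zero (a : ι → F) : InE Q K a 0 := ⟨1, one_mem K, fun x => by simp [eichler_zero S]⟩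

theorem InE.add {a y y' : ι → F} (ha : Q a = 0) (hy : ⟪a, y⟫ = 0) (hy' : ⟪a, y'⟫ = 0) (h : InE Q K a y)
    (h' : InE Q K a y') : InE Q K a (y + y') := by
  obtain ⟨g, hg, hgv⟩ := h
  obtain ⟨g', hg', hgv'⟩ := h'
  exact ⟨g * g', mul_mem hg hg', fun x => by rw [gl_mul_mulVec, hgv', hgv, eichler_comp S.hQ ha hy hy']⟩

theorem InE.neg {a y : ι → F} (ha : Q a = 0) (hy : ⟪a, y⟫ = 0) (h : InE Q K a y) : InE Q K a (-y) := by
  obtain ⟨g, hg, hgv⟩ := h
  refine ⟨g⁻¹, inv_mem hg, fun x => gl_mulVec_injective g ?_⟩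
  dsimp only
  rw [gl_mulVec_inv_cancel, hgv, eichler_comp S.hQ ha hy (by rw [neg_right S, hy, neg_zero]), add_neg_cancel,
    eichler_zero S]

theorem InE.scale {a y : ι → F} {l : F} (h : InE Q K (l • a) y) : InE Q K a (l • y) := by
  obtain ⟨g, hg, hgv⟩ := h
  refine ⟨g, hg, fun x => ?_⟩
  rw [hgv, eichler, eichler, smul_right S, smul_right S, S.hQ.smul, smul_smul, smul_smul]
  congr 1
  · rw [mul_comm]
  · congr 1; ring

theorem InE.unscale {a y : ι → F} {l : F} (h : InE Q K a (l • y)) : InE Q K (l • a) y := by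
  obtain ⟨g, hg, hgv⟩ := h
  refine ⟨g, hg, fun x => ?_⟩
  rw [hgv, eichler, eichler, smul_right S, smul_right S, S.hQ.smul, smul_smul, smul_smul]
  congr 1
  · rw [mul_comm]
  · congr 1; ring

theorem InE.swap {a y : ι → F} (ha : Q a = 0) (hy : Q y = 0) (h : InE Q K a y) : InE Q K y (-a) := by
  obtain ⟨g, hg, hgv⟩ := h
  refine ⟨g, hg, fun x => ?_⟩
  rw [hgv, eichler, eichler, hy, quad_neg S, ha, neg_right S]
  simp only [zero_mul, add_zero, neg_smul, smul_neg]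
  abel

theorem InE.shift {a y : ι → F} (ha : Q a = 0) (hy : ⟪a, y⟫ = 0) (s : F) (h : InE Q K a y) :
    InE Q K a (y + s • a) := by
  refine InE.add S ha hy (by rw [smul_right S, self_zero S ha, mul_zero]) h ⟨1, one_mem K, fun x => ?_⟩
  simp only [Units.val_one, Matrix.one_mulVec, eichler, smul_right S, S.hQ.smul, ha]
  module

theorem push_apply {e z : ι → F} (hez : ⟪e, z⟫ = 0) {k : GL ι F}
    (hk : ∀ x, (k : Matrix ι ι F) *ᵥ x = eichler Q e z x) {y : ι → F} (hye : ⟪y, e⟫ = 0) (hyz : ⟪y, z⟫ = 0) :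
    (k : Matrix ι ι F) *ᵥ y = y := by
  rw [hk, eichler, hye, hyz]; simp

omit S in
/-- The coefficient works on every rational pair. -/
def Coef (Q : (ι → F) → F) (T : (ι → F₀) → ι → F) (Q₀ : (ι → F₀) → F₀) (K : Subgroup (GL ι F)) (l : F) : Prop :=
  ∀ a c, Q₀ a = 0 → Q₀ c = 0 → QuadraticMap.polar Q₀ a c = 0 → InE Q K (T a) (l • T c)

variable [Fintype F₀]

/-- An isotropic vector outside a span and orthogonal to it has an isotropic partner. -/
theorem iso_dual {k : ℕ} {s : Fin k → ι → F₀} {w : ι → F₀} (hw : Q₀ w = 0) (hws : ∀ i, ⟪w, s i⟫₀ = 0)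
    (hind : w ∉ Submodule.span F₀ (Set.range s)) :
    ∃ z, Q₀ z = 0 ∧ (∀ i, ⟪z, s i⟫₀ = 0) ∧ ⟪z, w⟫₀ = 1 := by
  obtain ⟨z, hzs, hzw⟩ := OSim.exists_sep S.D hind
  refine ⟨z + (-Q₀ z) • w, ?_, fun i => ?_, ?_⟩
  · rw [OSim.quad_sum S.D, OSim.quad_smul S.D, hw, OSim.smul_right S.D, hzw]; ring
  · rw [OSim.add_left S.D, OSim.smul_left S.D, hzs, hws, mul_zero, add_zero]
  · rw [OSim.add_left S.D, OSim.smul_left S.D, OSim.self_zero S.D hw, hzw, mul_zero, add_zero]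

omit S in
/-- Proportional to a rational map. -/
def Good (T : (ι → F₀) → ι → F) (g : GL ι F) : Prop :=
  ∃ μ : F, μ ≠ 0 ∧ μ * μ ∈ F₀ ∧ ∀ x, ∃ w, (g : Matrix ι ι F) *ᵥ T x = μ • T w

/-- Two rational vectors whose images are multiples of rational vectors share the multiplier. -/
theorem share {g : GL ι F} {z b : ι → F₀} {μ ρ τ : F} {w₁ w₂ w : ι → F₀} (hμ : μ ≠ 0)
    (hind : b ∉ Submodule.span F₀ (Set.range ![z])) (hz0 : z ≠ 0)
    (h1 : (g : Matrix ι ι F) *ᵥ T z = μ • T w₁) (h2 : (g : Matrix ι ι F) *ᵥ T b = ρ • T w₂)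
    (h3 : (g : Matrix ι ι F) *ᵥ T (z + b) = τ • T w) : ∃ c : F₀, ρ = (c : F) * μ := by
  have indT : ∀ (x : F) , T b ≠ x • T z := by
    intro x e
    obtain ⟨v, -, hvz⟩ := OSim.exists_sep S.D (s := ![(0 : ι → F₀)]) (a := z) (fun hm => by
      obtain ⟨c, hc⟩ := OSim.mem_span1 S.D hm
      exact hz0 (by rw [hc, smul_zero]))
    have h := congrArg (fun y => ⟪y, T v⟫) e
    simp only [smul_left S, T_polar S, OSim.symm S.D z v, hvz, Subfield.coe_one, mul_one] at h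
    refine hind ?_
    have hb : b = ⟪b, v⟫₀ • z := by
      refine sub_eq_zero.mp (T_injective S ?_)
      rw [T_sub S, S.T_smul, e, ← h, sub_self]
    rw [hb]
    exact Submodule.smul_mem _ _ (Submodule.subset_span ⟨0, rfl⟩)
  have hw₁ : w₁ ≠ 0 := fun e => hz0 (T_injective S (gl_mulVec_injective g (by
    dsimp only; rw [h1, e, T_zero S, smul_zero, Matrix.mulVec_zero])))
  have hnot : w₁ ∉ Submodule.span F₀ (Set.range ![w₂]) := fun hm => by
    obtain ⟨k, hk⟩ := OSim.mem_span1 S.D hm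
    by_cases hk0 : (k : F) * μ = 0
    · exact hw₁ (by rw [hk, show k = 0 from Subtype.ext ((mul_eq_zero.mp hk0).resolve_right hμ), zero_smul])
    refine indT (ρ * ((k : F) * μ)⁻¹) (gl_mulVec_injective g ?_)
    dsimp only
    rw [Matrix.mulVec_smul, h1, h2, hk, S.T_smul, smul_smul, smul_smul]
    have hk' := left_ne_zero_of_mul hk0
    congr 1
    field_simp
  have hnot2 : w₂ ∉ Submodule.span F₀ (Set.range ![w₁]) := fun hm => by
    obtain ⟨k, hk⟩ := OSim.mem_span1 S.D hm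
    refine indT (ρ * (k : F) * μ⁻¹) (gl_mulVec_injective g ?_)
    dsimp only
    rw [Matrix.mulVec_smul, h1, h2, hk, S.T_smul, smul_smul, smul_smul, mul_assoc _ μ⁻¹, inv_mul_cancel₀ hμ, mul_one]
  obtain ⟨x, hxs, hx⟩ := OSim.exists_sep S.D hnot
  obtain ⟨x', hxs', hx'⟩ := OSim.exists_sep S.D hnot2
  rw [S.T_add, Matrix.mulVec_add, h1, h2] at h3
  have e1 := congrArg (fun y => ⟪y, T x⟫) h3
  have e2 := congrArg (fun y => ⟪y, T x'⟫) h3
  have hx2 : ⟪x, w₂⟫₀ = 0 := hxs 0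
  have hx'1 : ⟪x', w₁⟫₀ = 0 := hxs' 0
  simp only [add_left S, smul_left S, T_polar S, OSim.symm S.D w₁, OSim.symm S.D w₂, hx, hx', hx2, hx'1,
    Subfield.coe_one, Subfield.coe_zero, mul_one, mul_zero, add_zero, zero_add] at e1 e2
  have hw0 : ((⟪w, x⟫₀ : F₀) : F) ≠ 0 := fun e => hμ (by rw [e1, e, mul_zero])
  refine ⟨⟪w, x'⟫₀ / ⟪w, x⟫₀, ?_⟩
  rw [e2, e1, Subfield.coe_div]
  field_simp

/-- A proportional element of determinant one in odd dimension is rational. -/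
theorem rat_of_good (P : GL ι F) (hTP : ∀ u, T u = (P : Matrix ι ι F) *ᵥ fun i => (u i : F))
    (hodd : Odd (Fintype.card ι)) {g : GL ι F} (hdet : (g : Matrix ι ι F).det = 1) (hg : Good T g) :
    ∀ x, ∃ w, (g : Matrix ι ι F) *ᵥ T x = T w := by
  obtain ⟨μ, hμ, hμμ, h⟩ := hg
  choose w hw using h
  obtain ⟨M, hM⟩ : ∃ M : Matrix ι ι F₀, ∀ i l, M i l = w (Pi.single l 1) i :=
    ⟨Matrix.of fun i l => w (Pi.single l 1) i, fun _ _ => rfl⟩
  have hsingle : ∀ l, (fun i => ((Pi.single l (1 : F₀) : ι → F₀) i : F)) = Pi.single l 1 := fun l => by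
    funext i
    by_cases hi : i = l <;> simp [hi]
  have e : ((P⁻¹ * g * P : GL ι F) : Matrix ι ι F) = μ • M.map F₀.subtype := by
    refine Matrix.ext_of_mulVec_single fun l => ?_
    have h1 := hw (Pi.single l 1)
    rw [hTP, hsingle, hTP] at h1
    rw [gl_mul_mulVec, gl_mul_mulVec, h1, Matrix.mulVec_smul, gl_inv_mulVec_cancel]
    funext i
    rw [Matrix.mulVec_single_one]
    simp [hM]
  have hd : μ ^ Fintype.card ι * ((M.det : F₀) : F) = 1 := by
    have h1 : (M.map F₀.subtype).det = ((M.det : F₀) : F) := (RingHom.map_det F₀.subtype M).symm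
    rw [← h1, ← Matrix.det_smul, ← e, Units.val_mul, Units.val_mul, Matrix.det_units_conj', hdet]
  obtain ⟨k, hk⟩ := hodd
  have h3 : μ ^ Fintype.card ι ∈ F₀ := by
    rw [eq_inv_of_mul_eq_one_left hd]; exact inv_mem M.det.2
  have hμ' : μ ∈ F₀ := by
    have := mul_mem h3 (inv_mem (pow_mem hμμ k))
    rwa [hk, show μ ^ (2 * k + 1) = (μ * μ) ^ k * μ by rw [pow_succ, pow_mul, _root_.sq],
      mul_comm ((μ * μ) ^ k) μ, mul_inv_cancel_right₀ (pow_ne_zero _ (mul_ne_zero hμ hμ))] at this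
  intro x
  exact ⟨(⟨μ, hμ'⟩ : F₀) • w x, by rw [hw, S.T_smul]⟩

/-- All Eichler elements. -/
theorem full [Fintype F] (hC : ∀ l : F, Coef Q T Q₀ K l)
    {e y : ι → F} (he : Q e = 0) (hey : ⟪e, y⟫ = 0) : InE Q K e y := by
  -- rational centres
  have hreal : ∀ a, Q₀ a = 0 → ∀ y, ⟪T a, y⟫ = 0 → InE Q K (T a) y := by
    intro a ha
    by_cases ha0 : a = 0
    · intro y _
      rw [ha0, T_zero S]
      exact ⟨1, one_mem K, fun x => by simp [eichler, zero_right S]⟩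
    have hrat : ∀ w, ⟪a, w⟫₀ = 0 → ∀ l : F, InE Q K (T a) (l • T w) := by
      intro w haw l
      by_cases hw : Q₀ w = 0
      · exact hC l a w ha hw haw
      have hwa : w ∉ Submodule.span F₀ (Set.range ![a]) := fun hm => by
        obtain ⟨k, rfl⟩ := OSim.mem_span1 S.D hm
        exact hw (by rw [OSim.quad_smul S.D, ha, mul_zero])
      obtain ⟨u, hu, hus, huw⟩ := OSim.exists_iso_val S.D hwa (by have := S.big; omega)
      have hau : ⟪a, u⟫₀ = 0 := by rw [OSim.symm S.D]; exact hus 0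
      have hc1 : ⟪a, w + (-Q₀ w) • u⟫₀ = 0 := by
        rw [OSim.add_right S.D, OSim.smul_right S.D, haw, hau, mul_zero, add_zero]
      have h1 := hC l a (w + (-Q₀ w) • u) ha (by
        rw [OSim.quad_sum S.D, OSim.quad_smul S.D, hu, OSim.smul_right S.D, OSim.symm S.D w u, huw]; ring) hc1
      have h2 := hC (l * (Q₀ w : F)) a u ha hu hau
      have h3 := InE.add S (T_iso S ha) (by rw [smul_right S, T_orth S hc1, mul_zero])
        (by rw [smul_right S, T_orth S hau, mul_zero]) h1 h2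
      convert h3 using 1
      rw [S.T_add, S.T_smul, Subfield.coe_neg]
      module
    intro y hy
    obtain ⟨d, -, hda⟩ := OSim.exists_sep S.D (s := ![(0 : ι → F₀)]) (a := a) (fun hm => by
      obtain ⟨c, hc⟩ := OSim.mem_span1 S.D hm
      exact ha0 (by rw [hc, smul_zero]))
    obtain ⟨μ, hμ⟩ := S.T_span y
    obtain ⟨w, hw⟩ : ∃ w : ι → ι → F₀, ∀ i, w i = Pi.single i 1 - ⟪Pi.single i 1, a⟫₀ • d := ⟨_, fun _ => rfl⟩
    have hwa : ∀ i, ⟪a, w i⟫₀ = 0 := fun i => by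
      rw [hw, OSim.sub_right S.D, OSim.smul_right S.D, OSim.symm S.D a d, hda, OSim.symm S.D a]; ring
    let L : (ι → F) →ₗ[F] F :=
      { toFun := fun z => ⟪T a, z⟫, map_add' := fun p q => add_right S _ p q,
        map_smul' := fun c z => smul_right S c _ z }
    have hsum : y = ∑ i, μ i • T (w i) := by
      have h0 : ∑ i, μ i * ((⟪Pi.single i 1, a⟫₀ : F₀) : F) = 0 := by
        have : L y = 0 := hy
        rw [hμ, map_sum] at this
        rw [← this]
        refine Finset.sum_congr rfl fun i _ => ?_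
        rw [map_smul, smul_eq_mul]
        change _ = μ i * ⟪T a, T _⟫
        rw [T_polar S, OSim.symm S.D a]
      calc y = ∑ i, μ i • T (Pi.single i 1) := hμ
        _ = ∑ i, μ i • T (w i) + (∑ i, μ i * ((⟪Pi.single i 1, a⟫₀ : F₀) : F)) • T d := by
          rw [Finset.sum_smul, ← Finset.sum_add_distrib]
          refine Finset.sum_congr rfl fun i _ => ?_
          rw [hw, T_sub S, S.T_smul]
          module
        _ = _ := by rw [h0, zero_smul, add_zero]
    rw [hsum]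
    suffices hs : ∀ s : Finset ι, InE Q K (T a) (∑ i ∈ s, μ i • T (w i)) ∧
        ⟪T a, ∑ i ∈ s, μ i • T (w i)⟫ = 0 from (hs Finset.univ).1
    intro s
    induction s using Finset.induction with
    | empty => exact ⟨by rw [Finset.sum_empty]; exact inE_zero S _, by rw [Finset.sum_empty]; exact zero_right S _⟩
    | insert i s hi ih =>
      have h0 : ⟪T a, μ i • T (w i)⟫ = 0 := by rw [smul_right S, T_orth S (hwa i), mul_zero]
      rw [Finset.sum_insert hi]
      exact ⟨InE.add S (T_iso S ha) h0 ih.2 (hrat _ (hwa i) _) ih.1, by rw [add_right S, h0, ih.2, add_zero]⟩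
  by_cases he0 : e = 0
  · subst he0
    exact ⟨1, one_mem K, fun x => by simp [eichler, zero_right S]⟩
  -- a rational isotropic vector seeing the centre
  obtain ⟨a, ha, hea⟩ : ∃ a, Q₀ a = 0 ∧ ⟪e, T a⟫ ≠ 0 := by
    by_contra hcon
    push Not at hcon
    refine he0 (eq_zero_of_perp S fun u => ?_)
    by_cases hu : Q₀ u = 0
    · exact hcon u hu
    obtain ⟨b, hb, -, hbu⟩ := OSim.exists_iso_val S.D (s := ![(0 : ι → F₀)]) (a := u) (fun hm => by
      obtain ⟨c, hc⟩ := OSim.mem_span1 S.D hm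
      exact hu (by rw [hc, smul_zero, OSim.quad_zero' S.D])) (by have := S.big; omega)
    have h1 := hcon (u + (-Q₀ u) • b) (by
      rw [OSim.quad_sum S.D, OSim.quad_smul S.D, hb, OSim.smul_right S.D, OSim.symm S.D u b, hbu]; ring)
    rw [S.T_add, S.T_smul, add_right S, smul_right S, hcon b hb, mul_zero, add_zero] at h1
    exact h1
  have ha0 : a ≠ 0 := fun h0 => hea (by rw [h0, T_zero S, zero_right S])
  obtain ⟨a₂, ha₂, -, ha2a⟩ := OSim.exists_iso_val S.D (s := ![(0 : ι → F₀)]) (a := a) (fun hm => by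
    obtain ⟨c, hc⟩ := OSim.mem_span1 S.D hm
    exact ha0 (by rw [hc, smul_zero])) (by have := S.big; omega)
  obtain ⟨φ, hφ⟩ : ∃ φ, φ = ⟪e, T a⟫ := ⟨_, rfl⟩
  rw [← hφ] at hea
  obtain ⟨α, hα⟩ : ∃ α, α = ⟪e, T a₂⟫ := ⟨_, rfl⟩
  obtain ⟨y₀, hy₀⟩ : ∃ y₀, y₀ = (-φ⁻¹) • (e - α • T a - φ • T a₂) := ⟨_, rfl⟩
  have haa₂ : ⟪T a, T a₂⟫ = 1 := by rw [T_polar S, OSim.symm S.D, ha2a]; rfl
  have hay : ⟪T a, y₀⟫ = 0 := by
    rw [hy₀, smul_right S, sub_right S, sub_right S, smul_right S, smul_right S, self_zero S (T_iso S ha), haa₂,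
      B_symm S (T a) e, ← hφ]
    ring
  obtain ⟨k, hk, hkv⟩ := hreal a ha y₀ hay
  obtain ⟨ψ, hψ⟩ : ∃ ψ, ψ = α - (⟪e, y₀⟫ + Q y₀ * φ) := ⟨_, rfl⟩
  have hke : (k : Matrix ι ι F) *ᵥ e = ψ • T a + φ • T a₂ := by
    rw [hkv, eichler, ← hφ, hψ]
    have e1 : φ • y₀ = -(e - α • T a - φ • T a₂) := by
      rw [hy₀, smul_smul, mul_neg, mul_inv_cancel₀ hea, neg_one_smul]
    rw [e1]
    module
  have hψ0 : ψ = 0 := by
    have h0 := S.iso k hk e
    rw [hke, he, quad_add (Q := Q), S.hQ.smul, S.hQ.smul, T_iso S ha, T_iso S ha₂, smul_left S, smul_right S, haa₂] at h0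
    simpa [hea] using h0
  rw [hψ0, zero_smul, zero_add] at hke
  have hz : InE Q K (φ • T a₂) ((k : Matrix ι ι F) *ᵥ y) := InE.unscale S (hreal a₂ ha₂ _ (by
    rw [smul_right S, ← smul_left S, ← hke, iso_polar S hk, hey]))
  rw [← hke] at hz
  have := InE.conj S hz (inv_mem hk)
  rwa [gl_inv_mulVec_cancel, gl_inv_mulVec_cancel] at this

end Cfsg.Agent.Classical.OSub7
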