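/-
Two alternating maps whose product vanishes on all singular lines: one of them vanishes there.
-/
import Cfsg.Agent.Lib.Classical.OSubSmall.Tools

set_option autoImplicit false
set_option linter.unusedSectionVars false

namespace Cfsg.Agent.Classical.OSub7

open Matrix Cfsg.Geo
open Cfsg.Agent.Classical

variable {ι : Type} [Fintype ι] [DecidableEq ι] {F : Type*} [Field F] [Fintype F] {F₀ : Subfield F} [Fintype F₀]
  {Q : (ι → F) → F} {T : (ι → F₀) → ι → F} {Q₀ : (ι → F₀) → F₀} {K : Subgroup (GL ι F)}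

/-- The rational polar form. -/
local notation "⟪" x ", " y "⟫₀" => QuadraticMap.polar Q₀ x y

variable (S : Setup Q T Q₀ K)

include S

/-- A linear map vanishing on the singular vectors orthogonal to a singular vector vanishes on all of them. -/
theorem zero_on_perp {a : ι → F₀} (ha : Q₀ a = 0) {L : (ι → F₀) →ₗ[F₀] F}
    (hL : ∀ b, Q₀ b = 0 → ⟪b, a⟫₀ = 0 → L b = 0) {x : ι → F₀} (hx : ⟪x, a⟫₀ = 0) : L x = 0 := by
  by_cases hQx : Q₀ x = 0
  · exact hL x hQx hx
  have hind : x ∉ Submodule.span F₀ (Set.range ![a]) := fun hm => by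
    obtain ⟨k, hk⟩ := OSim.mem_span1 S.D hm
    exact hQx (by rw [hk, OSim.quad_smul S.D, ha, mul_zero])
  obtain ⟨z, hz, hzs, hzx⟩ := OSim.exists_iso_val S.D (s := ![a]) (a := x) hind (by have := S.big; omega)
  have hza : ⟪z, a⟫₀ = 0 := hzs 0
  have h := hL (x + (-Q₀ x) • z)
    (by rw [OSim.quad_sum S.D, OSim.quad_smul S.D, hz, OSim.smul_right S.D, OSim.symm S.D x z, hzx]; ring)
    (by rw [OSim.add_left S.D, OSim.smul_left S.D, hx, hza, mul_zero, add_zero])
  rwa [map_add, map_smul, hL z hz hza, smul_zero, add_zero] at h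

/-- The pairings with one point: one map vanishes. -/
theorem pencil {a : ι → F₀} (ha : Q₀ a = 0) {L₁ L₂ : (ι → F₀) →ₗ[F₀] F}
    (hprod : ∀ b, Q₀ b = 0 → ⟪b, a⟫₀ = 0 → L₁ b = 0 ∨ L₂ b = 0) :
    (∀ x, ⟪x, a⟫₀ = 0 → L₁ x = 0) ∨ ∀ x, ⟪x, a⟫₀ = 0 → L₂ x = 0 := by
  by_contra hcon
  push Not at hcon
  obtain ⟨⟨x₁, hx₁a, hx₁⟩, x₂, hx₂a, hx₂⟩ := hcon
  obtain ⟨b₁, hb₁, hb₁a, hn₁⟩ : ∃ b, Q₀ b = 0 ∧ ⟪b, a⟫₀ = 0 ∧ L₁ b ≠ 0 := by
    by_contra h
    push Not at h
    exact hx₁ (zero_on_perp S ha h hx₁a)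
  obtain ⟨b₂, hb₂, hb₂a, hn₂⟩ : ∃ b, Q₀ b = 0 ∧ ⟪b, a⟫₀ = 0 ∧ L₂ b ≠ 0 := by
    by_contra h
    push Not at h
    exact hx₂ (zero_on_perp S ha h hx₂a)
  have h12 := (hprod b₁ hb₁ hb₁a).resolve_left hn₁
  have h21 := (hprod b₂ hb₂ hb₂a).resolve_right hn₂
  have both : ∀ v, Q₀ (b₁ + b₂ + v) = 0 → ⟪v, a⟫₀ = 0 → L₁ v = 0 → L₂ v = 0 → False := fun v hQ hva e1 e2 => by
    rcases hprod _ hQ (by rw [OSim.add_left S.D, OSim.add_left S.D, hb₁a, hb₂a, hva, add_zero, add_zero]) with h | h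
    · rw [map_add, map_add, h21, e1, add_zero, add_zero] at h; exact hn₁ h
    · rw [map_add, map_add, h12, e2, zero_add, add_zero] at h; exact hn₂ h
  by_cases hc : ⟪b₁, b₂⟫₀ = 0
  · exact both 0 (by rw [add_zero, OSim.quad_sum S.D, hb₁, hb₂, hc]; ring) (OSim.zero_left S.D a) (map_zero _)
      (map_zero _)
  obtain ⟨w, hw, hws, hwt⟩ := OSim.exists_iso_wide S.D ![a, b₁, b₂] ![a] (by have := S.big; omega)
  have hwa : ⟪w, a⟫₀ = 0 := hws 0
  have hwb₁ : ⟪w, b₁⟫₀ = 0 := hws 1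
  have hwb₂ : ⟪w, b₂⟫₀ = 0 := hws 2
  have hwn : w ∉ Submodule.span F₀ (Set.range ![a, b₁, b₂]) := fun hm => by
    obtain ⟨c, d, k, hk⟩ := OSim.mem_span3 S.D hm
    have e1 := hwb₁
    have e2 := hwb₂
    rw [hk] at e1 e2
    simp only [OSim.add_left S.D, OSim.smul_left S.D, OSim.symm S.D a b₁, OSim.symm S.D a b₂, hb₁a, hb₂a,
      OSim.self_zero S.D hb₁, OSim.self_zero S.D hb₂, OSim.symm S.D b₂ b₁, mul_zero, zero_add, add_zero] at e1 e2
    rw [mul_eq_zero] at e1 e2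
    refine hwt ?_
    rw [hk, e2.resolve_right hc, e1.resolve_right hc, zero_smul, zero_smul, add_zero, add_zero]
    exact Submodule.smul_mem _ _ (Submodule.subset_span ⟨0, rfl⟩)
  obtain ⟨w', hw', hw's, hw'w⟩ := iso_dual S hw hws hwn
  have small : ∀ v, Q₀ v = 0 → ⟪v, a⟫₀ = 0 → ⟪v, b₁⟫₀ = 0 → ⟪v, b₂⟫₀ = 0 → L₁ v = 0 ∧ L₂ v = 0 := by
    intro v hv hva hv1 hv2
    have h1 := hprod (b₁ + v) (by rw [OSim.quad_sum S.D, hb₁, hv, OSim.symm S.D b₁ v, hv1]; ring)
      (by rw [OSim.add_left S.D, hb₁a, hva, add_zero])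
    have h2 := hprod (b₂ + v) (by rw [OSim.quad_sum S.D, hb₂, hv, OSim.symm S.D b₂ v, hv2]; ring)
      (by rw [OSim.add_left S.D, hb₂a, hva, add_zero])
    rw [map_add, map_add, h12, zero_add] at h1
    rw [map_add, map_add, h21, zero_add] at h2
    rcases hprod v hv hva with e | e
    · rw [e, add_zero] at h1
      exact ⟨e, h1.resolve_left hn₁⟩
    · rw [e, add_zero] at h2
      exact ⟨h2.resolve_right hn₂, e⟩
  obtain ⟨e1, e2⟩ := small w hw hwa hwb₁ hwb₂
  obtain ⟨f1, f2⟩ := small w' hw' (hw's 0) (hw's 1) (hw's 2)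
  have hp1 : ⟪b₁, w + (-⟪b₁, b₂⟫₀) • w'⟫₀ = 0 := by
    rw [OSim.add_right S.D, OSim.smul_right S.D, OSim.symm S.D b₁ w, hwb₁, OSim.symm S.D b₁ w',
      show ⟪w', b₁⟫₀ = 0 from hw's 1, mul_zero, add_zero]
  have hp2 : ⟪b₂, w + (-⟪b₁, b₂⟫₀) • w'⟫₀ = 0 := by
    rw [OSim.add_right S.D, OSim.smul_right S.D, OSim.symm S.D b₂ w, hwb₂, OSim.symm S.D b₂ w',
      show ⟪w', b₂⟫₀ = 0 from hw's 2, mul_zero, add_zero]
  refine both (w + (-⟪b₁, b₂⟫₀) • w') ?_ ?_ ?_ ?_
  · rw [OSim.quad_sum S.D (b₁ + b₂), OSim.quad_sum S.D b₁ b₂, OSim.quad_sum S.D w, OSim.quad_smul S.D, hb₁, hb₂, hw,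
      hw', OSim.smul_right S.D, OSim.symm S.D w w', hw'w, OSim.add_left S.D, hp1, hp2]
    ring
  · rw [OSim.add_left S.D, OSim.smul_left S.D, hwa, show ⟪w', a⟫₀ = 0 from hw's 0, mul_zero, add_zero]
  · rw [map_add, map_smul, e1, f1, smul_zero, add_zero]
  · rw [map_add, map_smul, e2, f2, smul_zero, add_zero]

/-- One of two alternating maps with vanishing product on singular lines vanishes on singular lines. -/
theorem one_zero {B₁ B₂ : (ι → F₀) →ₗ[F₀] (ι → F₀) →ₗ[F₀] F} (h₁ : ∀ x, B₁ x x = 0) (h₂ : ∀ x, B₂ x x = 0)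
    (hprod : ∀ a b, Q₀ a = 0 → Q₀ b = 0 → ⟪a, b⟫₀ = 0 → B₁ a b = 0 ∨ B₂ a b = 0) :
    (∀ a b, Q₀ a = 0 → Q₀ b = 0 → ⟪a, b⟫₀ = 0 → B₁ a b = 0) ∨
      ∀ a b, Q₀ a = 0 → Q₀ b = 0 → ⟪a, b⟫₀ = 0 → B₂ a b = 0 := by
  have alt₁ : ∀ x y, B₁ y x = -B₁ x y := fun x y => by
    have h := h₁ (x + y)
    simp only [map_add, LinearMap.add_apply, h₁, zero_add, add_zero] at h
    exact eq_neg_of_add_eq_zero_left h
  have alt₂ : ∀ x y, B₂ y x = -B₂ x y := fun x y => by
    have h := h₂ (x + y)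
    simp only [map_add, LinearMap.add_apply, h₂, zero_add, add_zero] at h
    exact eq_neg_of_add_eq_zero_left h
  refine or_iff_not_imp_left.mpr fun hne => ?_
  push Not at hne
  obtain ⟨a, b₀, ha, hb₀, hab₀, hne⟩ := hne
  have ha0 : a ≠ 0 := fun e => hne (by rw [e, map_zero, LinearMap.zero_apply])
  have ha1 : a ∉ Submodule.span F₀ (Set.range ![(0 : ι → F₀)]) := fun hm => by
    obtain ⟨c, hc⟩ := OSim.mem_span1 S.D hm
    exact ha0 (by rw [hc, smul_zero])
  obtain ⟨e, hee, -, hea⟩ := OSim.exists_iso_val S.D ha1 (by have := S.big; omega)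
  have split : ∀ x, ⟪x - ⟪x, a⟫₀ • e, a⟫₀ = 0 := fun x => by
    rw [OSim.sub_left S.D, OSim.smul_left S.D, hea]; ring
  -- every point is an eigenpoint of one of the maps
  have eig : ∀ s, Q₀ s = 0 → (∀ x, ⟪x, s⟫₀ = 0 → B₁ s x = 0) ∨ ∀ x, ⟪x, s⟫₀ = 0 → B₂ s x = 0 := fun s hs =>
    pencil S hs fun b hb hbs => hprod s b hs hb (by rw [OSim.symm S.D]; exact hbs)
  have hna : ¬ ∀ x, ⟪x, a⟫₀ = 0 → B₁ a x = 0 := fun h => hne (h b₀ (by rw [OSim.symm S.D]; exact hab₀))
  have hE2 := (eig a ha).resolve_left hna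
  obtain ⟨c, hc⟩ : ∃ c, c = B₂ a e := ⟨_, rfl⟩
  have hca : ∀ x, B₂ a x = (⟪x, a⟫₀ : F₀) • c := fun x => by
    have := hE2 _ (split x)
    rwa [map_sub, map_smul, sub_eq_zero, ← hc] at this
  -- the neighbours off one line share the eigenvalue
  have dich : ∀ b, Q₀ b = 0 → ⟪b, a⟫₀ = 0 → b ∉ Submodule.span F₀ (Set.range ![a]) →
      (∀ x, B₂ b x = (⟪x, b⟫₀ : F₀) • c) ∨ ∀ x, ⟪x, a⟫₀ = 0 → ⟪x, b⟫₀ = 0 → B₁ a x = 0 := by
    intro b hb hba hind
    obtain ⟨z, hzs, hzb⟩ := OSim.exists_sep S.D hind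
    have hza : ⟪z, a⟫₀ = 0 := hzs 0
    have hQp : Q₀ (a + b) = 0 := by rw [OSim.quad_sum S.D, ha, hb, OSim.symm S.D a b, hba]; ring
    have hQm : Q₀ (a - b) = 0 := by
      rw [sub_eq_add_neg, OSim.quad_sum S.D, ← neg_one_smul F₀ b, OSim.quad_smul S.D, ha, hb, OSim.smul_right S.D,
        OSim.symm S.D a b, hba]; ring
    have getEig : ∀ v, ∀ z', ⟪z', v⟫₀ = 1 → (∀ x, ⟪x, v⟫₀ = 0 → B₂ v x = 0) →
        ∀ x, B₂ v x = (⟪x, v⟫₀ : F₀) • B₂ v z' := fun v z' hz' h x => by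
      have := h (x - ⟪x, v⟫₀ • z') (by rw [OSim.sub_left S.D, OSim.smul_left S.D, hz']; ring)
      rwa [map_sub, map_smul, sub_eq_zero] at this
    have hplus : ⟪z, a + b⟫₀ = 1 := by rw [OSim.add_right S.D, hza, hzb, zero_add]
    have hzm : ⟪-z, a - b⟫₀ = 1 := by
      rw [OSim.neg_left S.D, OSim.sub_right S.D, hza, hzb]; ring
    rcases eig b hb with h | h
    · rcases eig _ hQp with hp | hp
      · refine Or.inr fun x hxa hxb => ?_
        have := hp x (by rw [OSim.add_right S.D, hxa, hxb, add_zero])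
        rwa [map_add, LinearMap.add_apply, h x hxb, add_zero] at this
      rcases eig _ hQm with hm | hm
      · refine Or.inr fun x hxa hxb => ?_
        have := hm x (by rw [OSim.sub_right S.D, hxa, hxb, sub_zero])
        rwa [map_sub, LinearMap.sub_apply, h x hxb, sub_zero] at this
      -- both sums are eigenpoints
      have p := getEig _ z hplus hp
      have m := getEig _ (-z) hzm hm
      left
      have key : ∀ x, (2 : F) * B₂ a x = (⟪x, a + b⟫₀ : F₀) • B₂ (a + b) z + (⟪x, a - b⟫₀ : F₀) • B₂ (a - b) (-z) :=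
        fun x => by
          rw [← p x, ← m x]
          simp only [map_add, map_sub, LinearMap.add_apply, LinearMap.sub_apply]
          ring
      have k1 := key z
      rw [hca, hza, zero_smul, mul_zero, hplus, one_smul, OSim.sub_right S.D, hza, hzb, zero_sub, neg_smul,
        one_smul, ← sub_eq_add_neg, eq_comm, sub_eq_zero] at k1
      have k2 := key e
      rw [hca, hea, one_smul, OSim.add_right S.D, OSim.sub_right S.D, hea, ← k1, ← add_smul,
        show (1 : F₀) + ⟪e, b⟫₀ + (1 - ⟪e, b⟫₀) = 2 by ring, Subfield.smul_def, smul_eq_mul] at k2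
      rw [show ((2 : F₀) : F) = 2 from map_ofNat F₀.subtype 2] at k2
      have k3 := mul_left_cancel₀ S.two k2
      intro x
      have := p x
      rw [← k3, map_add, LinearMap.add_apply, hca, OSim.add_right S.D, add_smul] at this
      exact add_left_cancel this
    · have hb2 := getEig b z hzb h
      rcases eig _ hQp with hp | hp
      swap
      · left
        have p := getEig _ z hplus hp
        intro x
        rw [hb2]
        congr 1
        have := p e
        rw [map_add, LinearMap.add_apply, LinearMap.add_apply, hca, hca, hb2, hea, hza, zero_smul, zero_add,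
          one_smul, OSim.add_right S.D, hea, add_smul, one_smul, hb2 z, hzb, one_smul, add_left_inj] at this
        exact this.symm
      rcases eig _ hQm with hm | hm
      · refine Or.inr fun x hxa hxb => ?_
        have e1 := hp x (by rw [OSim.add_right S.D, hxa, hxb, add_zero])
        have e2 := hm x (by rw [OSim.sub_right S.D, hxa, hxb, sub_zero])
        rw [map_add, LinearMap.add_apply] at e1
        rw [map_sub, LinearMap.sub_apply] at e2
        have : (2 : F) * B₁ a x = 0 := by linear_combination e1 + e2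
        exact (mul_eq_zero.mp this).resolve_left S.two
      · left
        have m := getEig _ (-z) hzm hm
        intro x
        rw [hb2]
        congr 1
        have := m e
        rw [map_sub, LinearMap.sub_apply, LinearMap.sub_apply, hca, hca, hb2, map_neg, hea, OSim.neg_left S.D, hza, neg_zero, zero_smul,
          zero_sub, one_smul, OSim.sub_right S.D, hea, sub_smul, one_smul, hb2 z, hzb, one_smul, neg_neg,
          sub_left_inj] at this
        exact this.symm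
  have nbr : ∀ b, Q₀ b = 0 → ⟪b, a⟫₀ = 0 → ∀ x, B₂ b x = (⟪x, b⟫₀ : F₀) • c := by
    intro b hb hba
    by_cases hind : b ∈ Submodule.span F₀ (Set.range ![a])
    · obtain ⟨k, hk⟩ := OSim.mem_span1 S.D hind
      intro x
      rw [hk, map_smul, LinearMap.smul_apply, hca, OSim.smul_right S.D, mul_smul]
    rcases dich b hb hba hind with h | hexc
    · exact h
    obtain ⟨w, hw, hws, hwt⟩ := OSim.exists_iso_wide S.D ![a, b] ![a, b] (by have := S.big; omega)
    have hwa : ⟪w, a⟫₀ = 0 := hws 0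
    have hwb : ⟪w, b⟫₀ = 0 := hws 1
    have good : ∀ v, Q₀ v = 0 → ⟪v, a⟫₀ = 0 → v ∉ Submodule.span F₀ (Set.range ![a, b]) →
        ∀ x, B₂ v x = (⟪x, v⟫₀ : F₀) • c := by
      intro v hv hva hvt
      refine (dich v hv hva fun hm => hvt (Submodule.span_mono (by simp) hm)).resolve_right fun hexv => hna ?_
      obtain ⟨d, hds, hdv⟩ := OSim.exists_sep S.D hvt
      intro x hx
      have h1 := hexv (x - ⟪x, v⟫₀ • d)
        (by rw [OSim.sub_left S.D, OSim.smul_left S.D, hx, show ⟪d, a⟫₀ = 0 from hds 0, mul_zero, sub_zero])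
        (by rw [OSim.sub_left S.D, OSim.smul_left S.D, hdv]; ring)
      rwa [map_sub, map_smul, hexc d (hds 0) (hds 1), smul_zero, sub_zero] at h1
    intro x
    have h1 := good w hw hwa hwt x
    have h2 := good (b + w) (by rw [OSim.quad_sum S.D, hb, hw, OSim.symm S.D b w, hwb]; ring)
      (by rw [OSim.add_left S.D, hba, hwa, add_zero])
      (fun hm => hwt (by
        have := sub_mem hm (Submodule.subset_span ⟨1, rfl⟩ : b ∈ Submodule.span F₀ (Set.range ![a, b]))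
        rwa [add_sub_cancel_left] at this)) x
    rw [map_add, LinearMap.add_apply, h1, OSim.add_right S.D, add_smul, add_left_inj] at h2
    exact h2
  -- the eigenvalue on the orthogonal space
  have ext : ∀ x, ⟪x, a⟫₀ = 0 → ∀ y, B₂ x y = (⟪y, x⟫₀ : F₀) • c := fun x hx y => by
    let L : (ι → F₀) →ₗ[F₀] F :=
      { toFun := fun v => B₂ v y - (⟪y, v⟫₀ : F₀) • c
        map_add' := fun p q => by
          simp only [map_add, LinearMap.add_apply, OSim.add_right S.D, add_smul]; abel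
        map_smul' := fun k p => by
          simp only [map_smul, LinearMap.smul_apply, OSim.smul_right S.D, mul_smul, RingHom.id_apply, smul_sub] }
    exact sub_eq_zero.mp (zero_on_perp S ha (L := L) (fun b hb hba => sub_eq_zero.mpr (nbr b hb hba y)) hx)
  have hc0 : c = 0 := by
    obtain ⟨w, hw, hws, hwt⟩ := OSim.exists_iso_wide S.D ![a] ![a] (by have := S.big; omega)
    obtain ⟨z, hz, hzs, hzw⟩ := iso_dual S hw hws hwt
    have e1 := ext w (hws 0) z
    have e2 := ext z (hzs 0) w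
    rw [alt₂ w z, e1, OSim.symm S.D w z, hzw, one_smul] at e2
    have : (2 : F) * c = 0 := by linear_combination -e2
    exact (mul_eq_zero.mp this).resolve_left S.two
  intro p q hp hq hpq
  have hzero : ∀ x, ⟪x, a⟫₀ = 0 → ∀ y, B₂ x y = 0 := fun x hx y => by rw [ext x hx y, hc0, smul_zero]
  obtain ⟨x', hx'⟩ : ∃ x', x' = q - ⟪q, a⟫₀ • e := ⟨_, rfl⟩
  obtain ⟨y', hy'⟩ : ∃ y', y' = p - ⟪p, a⟫₀ • e := ⟨_, rfl⟩
  rw [show p = y' + ⟪p, a⟫₀ • e by rw [hy', sub_add_cancel], show q = x' + ⟪q, a⟫₀ • e by rw [hx', sub_add_cancel]]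
  simp only [map_add, map_smul, LinearMap.add_apply, LinearMap.smul_apply, h₂, hzero y' (hy' ▸ split p),
    alt₂ x' e, hzero x' (hx' ▸ split q), neg_zero, smul_zero, add_zero]

end Cfsg.Agent.Classical.OSub7
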