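/-
A long root element pairing rationally with the rational ones has a rational line.
-/
import Cfsg.Agent.Lib.Classical.OSubSmall.Skew

set_option autoImplicit false
set_option linter.unusedSectionVars false

namespace Cfsg.Agent.Classical.OSub7

open Matrix Cfsg.Geo
open Cfsg.Agent.Classical

variable {ι : Type} [Fintype ι] [DecidableEq ι] {F : Type*} [Field F] [Fintype F] {F₀ : Subfield F} [Fintype F₀]
  {Q : (ι → F) → F} {T : (ι → F₀) → ι → F} {Q₀ : (ι → F₀) → F₀} {K : Subgroup (GL ι F)}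

/-- The polar form. -/
local notation "⟪" x ", " y "⟫" => QuadraticMap.polar Q x y

/-- The rational polar form. -/
local notation "⟪" x ", " y "⟫₀" => QuadraticMap.polar Q₀ x y

variable (S : Setup Q T Q₀ K)

include S

/-- A line pairing with all singular rational lines in one line over the subfield is rational. -/
theorem rational_line {u y : ι → F} (hind : ∀ c d : F, c • u + d • y = 0 → c = 0 ∧ d = 0) {lam : F}
    (h : ∀ a b : ι → F₀, Q₀ a = 0 → Q₀ b = 0 → ⟪a, b⟫₀ = 0 →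
      ∃ c : F₀, ⟪u, T a⟫ * ⟪y, T b⟫ - ⟪u, T b⟫ * ⟪y, T a⟫ = (c : F) * lam) :
    ∃ p p' : ι → F₀, T p ∈ Submodule.span F {u, y} ∧ T p' ∈ Submodule.span F {u, y} ∧
      u ∈ Submodule.span F {T p, T p'} ∧ y ∈ Submodule.span F {T p, T p'} := by
  classical
  obtain ⟨ψ, hψ⟩ : ∃ ψ : (ι → F₀) → (ι → F₀) → F,
      ∀ a b, ψ a b = ⟪u, T a⟫ * ⟪y, T b⟫ - ⟪u, T b⟫ * ⟪y, T a⟫ := ⟨_, fun _ _ => rfl⟩
  obtain ⟨L, hL⟩ : ∃ L : Submodule F₀ F, L = Submodule.span F₀ {lam} := ⟨_, rfl⟩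
  have add₂ : ∀ a b c, ψ a (b + c) = ψ a b + ψ a c := fun a b c => by
    simp only [hψ, S.T_add, add_right S]; ring
  have smul₂ : ∀ (k : F₀) a b, ψ a (k • b) = (k : F) * ψ a b := fun k a b => by
    simp only [hψ, S.T_smul, smul_right S]; ring
  have add₁ : ∀ a b c, ψ (a + b) c = ψ a c + ψ b c := fun a b c => by
    simp only [hψ, S.T_add, add_right S]; ring
  have smul₁ : ∀ (k : F₀) a b, ψ (k • a) b = (k : F) * ψ a b := fun k a b => by
    simp only [hψ, S.T_smul, smul_right S]; ring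
  have hmul : ∀ (k : F₀) {z : F}, z ∈ L → (k : F) * z ∈ L := fun k z hz => by
    have := L.smul_mem k hz
    rwa [Subfield.smul_def, smul_eq_mul] at this
  have hts : ∀ a b, Q₀ a = 0 → Q₀ b = 0 → ⟪a, b⟫₀ = 0 → ψ a b ∈ L := fun a b ha hb hab => by
    obtain ⟨c, hc⟩ := h a b ha hb hab
    rw [hψ, hc, hL, Submodule.mem_span_singleton]
    exact ⟨c, by rw [Subfield.smul_def, smul_eq_mul]⟩
  -- hyperbolic pairs
  have hhyp : ∀ a e, Q₀ a = 0 → Q₀ e = 0 → ⟪a, e⟫₀ = 1 → ψ a e ∈ L := by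
    intro a e ha he hae
    obtain ⟨w, hw, hws, hwt⟩ := OSim.exists_iso_wide S.D ![a, e] ![a, e] (by have := S.big; omega)
    obtain ⟨z, hz, hzs, hzw⟩ := iso_dual S hw hws hwt
    have hwa : ⟪w, a⟫₀ = 0 := hws 0
    have hwe : ⟪w, e⟫₀ = 0 := hws 1
    have hza : ⟪z, a⟫₀ = 0 := hzs 0
    have hze : ⟪z, e⟫₀ = 0 := hzs 1
    have pairs : ∀ p q, Q₀ p = 0 → Q₀ q = 0 → ⟪p, a⟫₀ = 0 → ⟪p, e⟫₀ = 0 → ⟪q, a⟫₀ = 0 → ⟪q, e⟫₀ = 0 →
        ⟪p, q⟫₀ = 1 → ψ a e - ψ p q ∈ L := by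
      intro p q hp hq hpa hpe hqa hqe hpq
      have h1 := hts (a + p) (e + (-1 : F₀) • q)
        (by rw [OSim.quad_sum S.D, ha, hp, OSim.symm S.D a p, hpa]; ring)
        (by rw [OSim.quad_sum S.D, OSim.quad_smul S.D, he, hq, OSim.smul_right S.D, OSim.symm S.D e q, hqe]; ring)
        (by simp only [OSim.add_left S.D, OSim.add_right S.D, OSim.smul_right S.D, hae, hpq, hpe,
              OSim.symm S.D a q, hqa]; ring)
      have h2 := hts a q ha hq (by rw [OSim.symm S.D]; exact hqa)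
      have h3 := hts p e hp he hpe
      rw [add₁, add₂, add₂, smul₂, smul₂, Subfield.coe_neg, Subfield.coe_one] at h1
      have h4 := sub_mem (add_mem h1 h2) h3
      convert h4 using 1
      ring
    have h1 := pairs w z hw hz hwa hwe hza hze (by rw [OSim.symm S.D]; exact hzw)
    have h2 := pairs z w hz hw hza hze hwa hwe hzw
    have h3 := hmul (2 : F₀)⁻¹ (add_mem h1 h2)
    convert h3 using 1
    rw [hψ z w, hψ w z, Subfield.coe_inv, show ((2 : F₀) : F) = 2 from map_ofNat F₀.subtype 2]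
    field_simp [S.two]
    ring
  have hiso : ∀ a b, Q₀ a = 0 → Q₀ b = 0 → ψ a b ∈ L := fun a b ha hb => by
    by_cases hab : ⟪a, b⟫₀ = 0
    · exact hts a b ha hb hab
    have h1 := hhyp a ((⟪a, b⟫₀)⁻¹ • b) ha (by rw [OSim.quad_smul S.D, hb, mul_zero])
      (by rw [OSim.smul_right S.D, inv_mul_cancel₀ hab])
    have h2 := hmul ⟪a, b⟫₀ h1
    rwa [smul₂, ← mul_assoc, ← Subfield.coe_mul, mul_inv_cancel₀ hab, Subfield.coe_one, one_mul] at h2
  have hspan : ∀ v, ∃ z k, Q₀ z = 0 ∧ Q₀ k = 0 ∧ ∃ s t : F₀, v = s • z + t • k := by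
    intro v
    by_cases hv : Q₀ v = 0
    · exact ⟨v, v, hv, hv, 1, 0, by simp⟩
    have hv1 : v ∉ Submodule.span F₀ (Set.range ![(0 : ι → F₀)]) := fun hm => by
      obtain ⟨c, hc⟩ := OSim.mem_span1 S.D hm
      exact hv (by rw [hc, smul_zero, OSim.quad_zero' S.D])
    obtain ⟨k, hk, -, hkv⟩ := OSim.exists_iso_val S.D hv1 (by have := S.big; omega)
    refine ⟨v + (-Q₀ v) • k, k, ?_, hk, 1, Q₀ v, ?_⟩
    · rw [OSim.quad_sum S.D, OSim.quad_smul S.D, hk, OSim.smul_right S.D, OSim.symm S.D v k, hkv]; ring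
    · module
  have hall : ∀ a b, ψ a b ∈ L := fun a b => by
    obtain ⟨a₁, a₂, ha₁, ha₂, s, t, rfl⟩ := hspan a
    obtain ⟨b₁, b₂, hb₁, hb₂, s', t', rfl⟩ := hspan b
    rw [add₁, smul₁, smul₁, add₂, add₂, smul₂, smul₂, smul₂, smul₂]
    exact add_mem (hmul _ (add_mem (hmul _ (hiso _ _ ha₁ hb₁)) (hmul _ (hiso _ _ ha₁ hb₂))))
      (hmul _ (add_mem (hmul _ (hiso _ _ ha₂ hb₁)) (hmul _ (hiso _ _ ha₂ hb₂))))
  -- a pair with non-zero value
  obtain ⟨v, w, hvw⟩ : ∃ v w, ψ v w ≠ 0 := by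
    by_contra hcon
    push Not at hcon
    obtain ⟨v, hv⟩ : ∃ v, ⟪u, T v⟫ ≠ 0 := by
      by_contra hv
      push Not at hv
      exact one_ne_zero (hind 1 0 (by rw [eq_zero_of_perp S hv]; simp)).1
    have hperp : ⟪u, T v⟫ • y - ⟪y, T v⟫ • u = 0 := eq_zero_of_perp S fun w => by
      rw [sub_left S, smul_left S, smul_left S]
      linear_combination (hψ v w).symm.trans (hcon v w)
    exact hv (hind (-⟪y, T v⟫) ⟪u, T v⟫ (by rw [← hperp]; module)).2
  have hlam : lam ≠ 0 := fun e => by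
    have := hall v w
    rw [hL, e, Submodule.span_singleton_eq_bot.mpr rfl, Submodule.mem_bot] at this
    exact hvw this
  have real : ∀ x, ∃ p, lam⁻¹ • (⟪u, T x⟫ • y - ⟪y, T x⟫ • u) = T p := fun x => exists_real S fun z => by
    have := hall x z
    rw [hL, Submodule.mem_span_singleton] at this
    obtain ⟨c, hc⟩ := this
    rw [Subfield.smul_def, smul_eq_mul, hψ] at hc
    rw [smul_left S, sub_left S, smul_left S, smul_left S,
      show lam⁻¹ * (⟪u, T x⟫ * ⟪y, T z⟫ - ⟪y, T x⟫ * ⟪u, T z⟫) = (c : F) by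
        rw [show ⟪y, T x⟫ * ⟪u, T z⟫ = ⟪u, T z⟫ * ⟪y, T x⟫ from mul_comm _ _, ← hc, mul_comm (c : F),
          inv_mul_cancel_left₀ hlam]]
    exact c.2
  obtain ⟨p, hp⟩ := real v
  obtain ⟨p', hp'⟩ := real w
  have hu : u ∈ Submodule.span F {u, y} := Submodule.subset_span (by simp)
  have hy : y ∈ Submodule.span F {u, y} := Submodule.subset_span (by simp)
  refine ⟨p, p', hp ▸ Submodule.smul_mem _ _ (sub_mem (Submodule.smul_mem _ _ hy) (Submodule.smul_mem _ _ hu)),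
    hp' ▸ Submodule.smul_mem _ _ (sub_mem (Submodule.smul_mem _ _ hy) (Submodule.smul_mem _ _ hu)), ?_, ?_⟩
  · refine Submodule.mem_span_pair.mpr ⟨(ψ v w)⁻¹ * lam * ⟪u, T w⟫, -((ψ v w)⁻¹ * lam * ⟪u, T v⟫), ?_⟩
    rw [← hp, ← hp']
    match_scalars <;> field_simp <;> rw [hψ] <;> ring
  · refine Submodule.mem_span_pair.mpr ⟨(ψ v w)⁻¹ * lam * ⟪y, T w⟫, -((ψ v w)⁻¹ * lam * ⟪y, T v⟫), ?_⟩
    rw [← hp, ← hp']
    match_scalars <;> field_simp <;> rw [hψ] <;> ring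

/-- An isometry mapping singular rational lines to rational lines is proportional to a rational one. -/
theorem good_of_lines {g : GL ι F} (hgK : g ∈ K)
    (hlines : ∀ a b : ι → F₀, Q₀ a = 0 → Q₀ b = 0 → ⟪a, b⟫₀ = 0 → b ∉ Submodule.span F₀ (Set.range ![a]) → a ≠ 0 →
      ∃ p p' : ι → F₀, T p ∈ Submodule.span F {(g : Matrix ι ι F) *ᵥ T a, (g : Matrix ι ι F) *ᵥ T b} ∧
        T p' ∈ Submodule.span F {(g : Matrix ι ι F) *ᵥ T a, (g : Matrix ι ι F) *ᵥ T b} ∧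
        (g : Matrix ι ι F) *ᵥ T a ∈ Submodule.span F {T p, T p'} ∧
        (g : Matrix ι ι F) *ᵥ T b ∈ Submodule.span F {T p, T p'}) : Good T g := by
  have hpol := iso_polar S hgK
  have point : ∀ a, Q₀ a = 0 → a ≠ 0 → ∃ (ρ : F) (w : ι → F₀), (g : Matrix ι ι F) *ᵥ T a = ρ • T w := by
    intro a ha ha0
    obtain ⟨b, hb, hbs, hbt⟩ := OSim.exists_iso_wide S.D ![a] ![a] (by have := S.big; omega)
    obtain ⟨c, hc, hcs, hcb⟩ := iso_dual S hb hbs hbt
    have hba : ⟪b, a⟫₀ = 0 := hbs 0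
    have hca : ⟪c, a⟫₀ = 0 := hcs 0
    have hct : c ∉ Submodule.span F₀ (Set.range ![a]) := fun hm => by
      obtain ⟨k, hk⟩ := OSim.mem_span1 S.D hm
      rw [hk, OSim.smul_left S.D, OSim.symm S.D a b, hba, mul_zero] at hcb
      exact zero_ne_one hcb
    obtain ⟨p, p', hp, hp', hau, hbu⟩ := hlines a b ha hb (by rw [OSim.symm S.D]; exact hba) hbt ha0
    obtain ⟨q, q', hq, hq', hau', -⟩ := hlines a c ha hc (by rw [OSim.symm S.D]; exact hca) hct ha0
    obtain ⟨z, hzq, hzq', hz⟩ : ∃ z, ⟪z, q⟫₀ = 0 ∧ ⟪z, q'⟫₀ = 0 ∧ (⟪z, p⟫₀ ≠ 0 ∨ ⟪z, p'⟫₀ ≠ 0) := by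
      by_contra hcon
      push Not at hcon
      have hmem : ∀ r, (∀ z, ⟪z, q⟫₀ = 0 → ⟪z, q'⟫₀ = 0 → ⟪z, r⟫₀ = 0) →
          T r ∈ Submodule.span F {(g : Matrix ι ι F) *ᵥ T a, (g : Matrix ι ι F) *ᵥ T c} := by
        intro r hr
        have hr' : r ∈ Submodule.span F₀ (Set.range ![q, q']) := by
          by_contra hn
          obtain ⟨z, hzs, hzr⟩ := OSim.exists_sep S.D hn
          exact one_ne_zero (hzr.symm.trans (hr z (hzs 0) (hzs 1)))
        obtain ⟨s, t, hst⟩ := OSim.mem_span2 S.D hr'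
        rw [hst, S.T_add, S.T_smul, S.T_smul]
        exact add_mem (Submodule.smul_mem _ _ hq) (Submodule.smul_mem _ _ hq')
      obtain ⟨s, t, hst⟩ := Submodule.mem_span_pair.mp hbu
      obtain ⟨s', t', hst'⟩ := Submodule.mem_span_pair.mp (show (g : Matrix ι ι F) *ᵥ T b ∈
          Submodule.span F {(g : Matrix ι ι F) *ᵥ T a, (g : Matrix ι ι F) *ᵥ T c} from hst ▸
        add_mem (Submodule.smul_mem _ _ (hmem p fun z h1 h2 => (hcon z h1 h2).1))
          (Submodule.smul_mem _ _ (hmem p' fun z h1 h2 => (hcon z h1 h2).2)))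
      have h1 := congrArg (fun x => ⟪x, (g : Matrix ι ι F) *ᵥ T c⟫) hst'
      simp only [add_left S, smul_left S, hpol, T_polar S, OSim.symm S.D a c, hca, OSim.self_zero S.D hc,
        OSim.symm S.D b c, hcb, Subfield.coe_zero, Subfield.coe_one, mul_zero, add_zero] at h1
      exact zero_ne_one h1
    have hzu : ⟪T z, (g : Matrix ι ι F) *ᵥ T a⟫ = 0 := by
      obtain ⟨s, t, hst⟩ := Submodule.mem_span_pair.mp hau'
      rw [← hst, add_right S, smul_right S, smul_right S, T_orth S hzq, T_orth S hzq', mul_zero, mul_zero, add_zero]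
    obtain ⟨s, t, hst⟩ := Submodule.mem_span_pair.mp hau
    rw [← hst, add_right S, smul_right S, smul_right S, T_polar S, T_polar S] at hzu
    rw [← hst]
    rcases hz with hz | hz
    · have hne : ((⟪z, p⟫₀ : F₀) : F) ≠ 0 := fun e => hz (Subtype.ext e)
      refine ⟨t, (-(⟪z, p'⟫₀ / ⟪z, p⟫₀)) • p + p', ?_⟩
      rw [S.T_add, S.T_smul, Subfield.coe_neg, Subfield.coe_div, smul_add, smul_smul]
      congr 2
      field_simp
      linear_combination hzu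
    · have hne : ((⟪z, p'⟫₀ : F₀) : F) ≠ 0 := fun e => hz (Subtype.ext e)
      refine ⟨s, p + (-(⟪z, p⟫₀ / ⟪z, p'⟫₀)) • p', ?_⟩
      rw [S.T_add, S.T_smul, Subfield.coe_neg, Subfield.coe_div, smul_add, smul_smul]
      congr 2
      field_simp
      linear_combination hzu
  obtain ⟨a, ha, -, hat⟩ := OSim.exists_iso_wide S.D ![(0 : ι → F₀)] ![(0 : ι → F₀)] (by have := S.big; omega)
  have ha0 : a ≠ 0 := fun e => hat (by rw [e]; exact zero_mem _)
  obtain ⟨μ, w₀, hμw⟩ := point a ha ha0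
  have hμ : μ ≠ 0 := fun e => ha0 (T_injective S (gl_mulVec_injective g (by
    dsimp only; rw [hμw, e, zero_smul, Matrix.mulVec_zero])))
  have step : ∀ z b, Q₀ z = 0 → Q₀ b = 0 → ⟪z, b⟫₀ = 0 → z ≠ 0 → b ∉ Submodule.span F₀ (Set.range ![z]) →
      (∃ w, (g : Matrix ι ι F) *ᵥ T z = μ • T w) → ∃ w, (g : Matrix ι ι F) *ᵥ T b = μ • T w := by
    rintro z b hz hb hzb hz0 hind ⟨wz, hwz⟩
    have hb0 : b ≠ 0 := fun e => hind (by rw [e]; exact zero_mem _)
    obtain ⟨ρ, w₂, h2⟩ := point b hb hb0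
    obtain ⟨τ, w, h3⟩ := point (z + b) (by rw [OSim.quad_sum S.D, hz, hb, hzb]; ring) (fun e => hind (by
      rw [eq_neg_of_add_eq_zero_right e]; exact neg_mem (Submodule.subset_span ⟨0, rfl⟩)))
    obtain ⟨c, hc⟩ := share S hμ hind hz0 hwz h2 h3
    exact ⟨c • w₂, by rw [h2, hc, S.T_smul, smul_smul, mul_comm]⟩
  have hiso : ∀ z, Q₀ z = 0 → ∃ w, (g : Matrix ι ι F) *ᵥ T z = μ • T w := by
    intro z hz
    by_cases hz0 : z = 0
    · exact ⟨0, by rw [hz0, T_zero S, Matrix.mulVec_zero, smul_zero]⟩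
    obtain ⟨b, hb, hbs, hbt⟩ := OSim.exists_iso_wide S.D ![a, z] ![a, z] (by have := S.big; omega)
    have hb0 : b ≠ 0 := fun e => hbt (by rw [e]; exact zero_mem _)
    refine step b z hb hz (hbs 1) hb0 (fun hm => hbt ?_)
      (step a b ha hb (by rw [OSim.symm S.D]; exact hbs 0) ha0 (fun hm => hbt (Submodule.span_mono (by simp) hm))
        ⟨w₀, hμw⟩)
    obtain ⟨c, hc⟩ := OSim.mem_span1 S.D hm
    have hc0 : c ≠ 0 := fun e => hz0 (by rw [hc, e, zero_smul])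
    rw [show b = c⁻¹ • z by rw [hc, smul_smul, inv_mul_cancel₀ hc0, one_smul]]
    exact Submodule.smul_mem _ _ (Submodule.subset_span ⟨1, rfl⟩)
  have hμμ : μ * μ ∈ F₀ := by
    have ha1 : a ∉ Submodule.span F₀ (Set.range ![(0 : ι → F₀)]) := hat
    obtain ⟨e, he, -, hea⟩ := OSim.exists_iso_val S.D ha1 (by have := S.big; omega)
    obtain ⟨w, hw⟩ := hiso e he
    have h1 := hpol (T e) (T a)
    rw [hw, hμw, smul_left S, smul_right S, T_polar S, T_polar S, hea, Subfield.coe_one, ← mul_assoc] at h1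
    rw [eq_inv_of_mul_eq_one_left h1]
    exact inv_mem (Subtype.coe_prop _)
  refine ⟨μ, hμ, hμμ, fun x => ?_⟩
  by_cases hx : Q₀ x = 0
  · exact hiso x hx
  have hx1 : x ∉ Submodule.span F₀ (Set.range ![(0 : ι → F₀)]) := fun hm => by
    obtain ⟨c, hc⟩ := OSim.mem_span1 S.D hm
    exact hx (by rw [hc, smul_zero, OSim.quad_zero' S.D])
  obtain ⟨k, hk, -, hkx⟩ := OSim.exists_iso_val S.D hx1 (by have := S.big; omega)
  obtain ⟨w₁, hw₁⟩ := hiso (x + (-Q₀ x) • k)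
    (by rw [OSim.quad_sum S.D, OSim.quad_smul S.D, hk, OSim.smul_right S.D, OSim.symm S.D x k, hkx]; ring)
  obtain ⟨w₂, hw₂⟩ := hiso k hk
  refine ⟨w₁ + Q₀ x • w₂, ?_⟩
  conv_lhs => rw [show x = (x + (-Q₀ x) • k) + Q₀ x • k by module]
  rw [S.T_add, S.T_smul, Matrix.mulVec_add, Matrix.mulVec_smul, hw₁, hw₂, S.T_add, S.T_smul, smul_add,
    smul_comm]

end Cfsg.Agent.Classical.OSub7
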