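/-
Two opposite long root elements, one rational, generate the whole root group unless the pairing is special.
-/
import Cfsg.Agent.Lib.Classical.OSubSmall.Tools
import Cfsg.Agent.Lib.Classical.SL2SimpleExt
import Cfsg.Agent.Lib.Classical.SL2PlaneGen

set_option autoImplicit false
set_option linter.unusedSectionVars false

namespace Cfsg.Agent.Classical.OSub7

open Matrix Cfsg.Geo
open Cfsg.Agent.Classical
open Cfsg.Agent.Fusion.Dickson (upU lowL mul_entry)

variable {ι : Type} [Fintype ι] [DecidableEq ι] {F : Type*} [Field F] [Fintype F] {F₀ : Subfield F} [Fintype F₀]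
  {Q : (ι → F) → F} {T : (ι → F₀) → ι → F} {Q₀ : (ι → F₀) → F₀} {K : Subgroup (GL ι F)}

/-- The polar form. -/
local notation "⟪" x ", " y "⟫" => QuadraticMap.polar Q x y

/-- The rational polar form. -/
local notation "⟪" x ", " y "⟫₀" => QuadraticMap.polar Q₀ x y

variable (S : Setup Q T Q₀ K)

include S

/-- An opposite root element with an unusual pairing gives the whole rational root group. -/
theorem full_of_opposite {r : ℕ} (hr : r.Prime) (hcard : Fintype.card F = Nat.card F₀ ^ r)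
    {a b : ι → F₀} (ha : Q₀ a = 0) (hb : Q₀ b = 0) (hab : ⟪a, b⟫₀ = 0)
    {u y : ι → F} (hu : Q u = 0) (hy : Q y = 0) (huy : ⟪u, y⟫ = 0)
    (hx : ∀ t : F₀, InE Q K u ((t : F) • y)) {ψ : F}
    (hψ : ψ = ⟪u, T a⟫ * ⟪y, T b⟫ - ⟪u, T b⟫ * ⟪y, T a⟫) (hψ₀ : ψ ∉ F₀)
    (hex : Nat.card F₀ ≠ 3 ∨ ψ ^ 2 ≠ -1) (l : F) : InE Q K (T a) (l • T b) := by
  classical
  have hψ0 : ψ ≠ 0 := fun e => hψ₀ (e ▸ zero_mem _)
  -- the dual basis of the second plane
  obtain ⟨u', hu'⟩ : ∃ u', u' = ψ⁻¹ • (⟪y, T b⟫ • u - ⟪u, T b⟫ • y) := ⟨_, rfl⟩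
  obtain ⟨y', hy'⟩ : ∃ y', y' = ψ⁻¹ • (⟪u, T a⟫ • y - ⟪y, T a⟫ • u) := ⟨_, rfl⟩
  have hua : ⟪u', T a⟫ = 1 := by
    rw [hu', smul_left S, sub_left S, smul_left S, smul_left S]
    field_simp
    rw [hψ]; ring
  have hub : ⟪u', T b⟫ = 0 := by
    rw [hu', smul_left S, sub_left S, smul_left S, smul_left S]; ring
  have hya : ⟪y', T a⟫ = 0 := by
    rw [hy', smul_left S, sub_left S, smul_left S, smul_left S]; ring
  have hyb : ⟪y', T b⟫ = 1 := by
    rw [hy', smul_left S, sub_left S, smul_left S, smul_left S]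
    field_simp
    rw [hψ]; ring
  have hTa : ⟪T a, T a⟫ = 0 := self_zero S (T_iso S ha)
  have hTb : ⟪T b, T b⟫ = 0 := self_zero S (T_iso S hb)
  have hTab : ⟪T a, T b⟫ = 0 := T_orth S hab
  have huu : ⟪u', u'⟫ = 0 := by
    rw [hu']
    simp only [smul_left S, smul_right S, sub_left S, sub_right S, self_zero S hu, self_zero S hy, huy,
      B_symm S y u]
    ring
  have hyy : ⟪y', y'⟫ = 0 := by
    rw [hy']
    simp only [smul_left S, smul_right S, sub_left S, sub_right S, self_zero S hu, self_zero S hy, huy,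
      B_symm S y u]
    ring
  have huy' : ⟪u', y'⟫ = 0 := by
    rw [hu', hy']
    simp only [smul_left S, smul_right S, sub_left S, sub_right S, self_zero S hu, self_zero S hy, huy,
      B_symm S y u]
    ring
  -- the action of the rank one group
  let L : Matrix.SpecialLinearGroup (Fin 2) F → (ι → F) →ₗ[F] (ι → F) := fun g =>
    { toFun := fun z => z - ⟪u', z⟫ • T a - ⟪y', z⟫ • T b - ⟪T a, z⟫ • u' - ⟪T b, z⟫ • y'
        + (g.1 0 0 * ⟪y', z⟫ + g.1 0 1 * ⟪T a, z⟫) • T b + (g.1 1 0 * ⟪y', z⟫ + g.1 1 1 * ⟪T a, z⟫) • u'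
        + (g.1 0 0 * ⟪u', z⟫ - g.1 0 1 * ⟪T b, z⟫) • T a + (-(g.1 1 0 * ⟪u', z⟫) + g.1 1 1 * ⟪T b, z⟫) • y'
      map_add' := fun z w => by simp only [add_right S]; module
      map_smul' := fun c z => by simp only [smul_right S, RingHom.id_apply]; module }
  have hL : ∀ g z, L g z = z - ⟪u', z⟫ • T a - ⟪y', z⟫ • T b - ⟪T a, z⟫ • u' - ⟪T b, z⟫ • y'
        + (g.1 0 0 * ⟪y', z⟫ + g.1 0 1 * ⟪T a, z⟫) • T b + (g.1 1 0 * ⟪y', z⟫ + g.1 1 1 * ⟪T a, z⟫) • u'
        + (g.1 0 0 * ⟪u', z⟫ - g.1 0 1 * ⟪T b, z⟫) • T a + (-(g.1 1 0 * ⟪u', z⟫) + g.1 1 1 * ⟪T b, z⟫) • y' :=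
    fun g z => rfl
  let φ : Matrix.SpecialLinearGroup (Fin 2) F →* GL ι F := MonoidHom.toHomUnits
    { toFun := fun g => LinearMap.toMatrix' (L g)
      map_one' := by
        rw [← LinearMap.toMatrix'_id]
        congr 1
        refine LinearMap.ext fun z => ?_
        rw [hL, LinearMap.id_apply]
        simp [Matrix.one_apply]
        module
      map_mul' := fun g h => by
        rw [← LinearMap.toMatrix'_comp]
        congr 1
        refine LinearMap.ext fun z => ?_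
        rw [LinearMap.comp_apply, hL (g * h), hL g, hL h]
        simp only [mul_entry, add_right S, sub_right S, smul_right S, hua, hub, hya, hyb, hTa, hTb, hTab, huu,
          hyy, huy', B_symm S (T a) u', B_symm S (T a) y', B_symm S (T b) u', B_symm S (T b) y',
          B_symm S (T b) (T a), B_symm S y' u']
        module }
  have hφ : ∀ g z, (φ g : Matrix ι ι F) *ᵥ z = L g z := fun g z => LinearMap.toMatrix'_mulVec _ _
  have hup : ∀ t : F, ∀ z, (φ (upU t) : Matrix ι ι F) *ᵥ z = eichler Q (T a) (t • T b) z := fun t z => by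
    rw [hφ, hL, eichler, S.hQ.smul, T_iso S hb, smul_right S, B_symm S z (T a), B_symm S z (T b)]
    simp [upU]
    module
  have hlow : ∀ c : F, ∀ z, (φ (lowL c) : Matrix ι ι F) *ᵥ z = eichler Q u ((-c / ψ) • y) z := fun c z => by
    have e : c • (⟪y', z⟫ • u' - ⟪u', z⟫ • y') = (-c / ψ) • (⟪z, u⟫ • y - ⟪z, y⟫ • u) := by
      rw [hu', hy']
      simp only [smul_left S, sub_left S, B_symm S u z, B_symm S y z]
      match_scalars <;> field_simp <;> rw [hψ] <;> ring
    rw [hφ, hL, eichler, S.hQ.smul, hy, smul_right S]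
    simp [lowL]
    linear_combination (norm := module) e
  -- the pulled back subgroup
  obtain ⟨G, hG⟩ : ∃ G, G = K.comap φ := ⟨_, rfl⟩
  have inK : ∀ {g : Matrix.SpecialLinearGroup (Fin 2) F} {v w : ι → F}, InE Q K v w →
      (∀ z, (φ g : Matrix ι ι F) *ᵥ z = eichler Q v w z) → g ∈ G := fun {g v w} ⟨k, hk, hkv⟩ h => by
    rw [hG, Subgroup.mem_comap, show φ g = k from gl_ext_mulVec fun z => by rw [h, hkv]]
    exact hk
  have hu₁ : ∀ c : F₀, upU (algebraMap F₀ F c) ∈ G := fun c => by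
    refine inK ?_ (hup _)
    have := S.base a (c • b) ha (by rw [OSim.smul_right S.D, hab, mul_zero])
    rwa [S.T_smul] at this
  have hl₁ : ∀ c : F₀, lowL (algebraMap F₀ F c * -ψ) ∈ G := fun c => by
    refine inK ?_ (hlow _)
    rw [show -(algebraMap F₀ F c * -ψ) / ψ = (c : F) by
      rw [mul_neg, neg_neg, mul_div_assoc, div_self hψ0, mul_one]; rfl]
    exact hx c
  have h20 : (2 : F₀) ≠ 0 := fun e => S.two (by
    have := congrArg F₀.subtype e
    rwa [map_ofNat, map_zero] at this)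
  have hint : IsIntegral F₀ (-ψ) := IsIntegral.of_finite F₀ _
  have hex' : Nat.card F₀ ≠ 3 ∨ (-ψ) ^ 2 ≠ -1 := by rwa [neg_sq]
  have hall := SL2SimpleExt.aeval_mem_of_finite_or hu₁ hl₁ h20 hex' hint (neg_ne_zero.mpr hψ0)
  have hle : F₀ ≤ (IntermediateField.adjoin F₀ ({-ψ} : Set F)).toSubfield := fun x hx =>
    IntermediateField.algebraMap_mem _ (⟨x, hx⟩ : F₀)
  have htop := SL2Plane.eq_top_of_lt hr hcard hle (IntermediateField.mem_adjoin_simple_self F₀ (-ψ))
    (fun h => hψ₀ (by simpa using neg_mem h)) l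
  change l ∈ (IntermediateField.adjoin F₀ ({-ψ} : Set F)).toSubalgebra at htop
  rw [IntermediateField.adjoin_simple_toSubalgebra_of_isAlgebraic hint.isAlgebraic,
    Algebra.adjoin_singleton_eq_range_aeval] at htop
  obtain ⟨P, rfl⟩ := htop
  have h := hall P
  rw [SL2SimpleExt.mem_upSet, hG, Subgroup.mem_comap] at h
  exact ⟨_, h, hup _⟩

end Cfsg.Agent.Classical.OSub7
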