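/-
The subfield subgroups are maximal in the orthogonal groups of odd dimension at least seven.
-/
import Cfsg.Agent.Lib.Classical.OSubSmall.Rational
import Cfsg.Agent.Lib.Classical.OSubSmall.SL2
import Cfsg.Agent.Lib.Classical.OrthEvenBase
import Cfsg.Agent.Lib.Classical.OrthIndex
import Cfsg.Agent.Lib.Classical.FormPower

set_option autoImplicit false
set_option linter.unusedSectionVars false
set_option linter.style.haveILetI false

namespace Cfsg.Agent.Classical.OSub7

open Matrix Cfsg.Geo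
open Cfsg.Agent.Classical

variable {ι : Type} [Fintype ι] [DecidableEq ι] {F : Type*} [Field F] [Fintype F]

section

variable {F₀ : Subfield F} [Fintype F₀] {Q : (ι → F) → F} {T : (ι → F₀) → ι → F} {Q₀ : (ι → F₀) → F₀}
  {K : Subgroup (GL ι F)}

/-- The polar form. -/
local notation "⟪" x ", " y "⟫" => QuadraticMap.polar Q x y

/-- The rational polar form. -/
local notation "⟪" x ", " y "⟫₀" => QuadraticMap.polar Q₀ x y

variable (S : Setup Q T Q₀ K)

include S

/-- One full root group gives all. -/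
theorem coef_of_full {a c : ι → F₀} (ha : Q₀ a = 0) (hc : Q₀ c = 0) (hac : ⟪a, c⟫₀ = 0) (ha0 : a ≠ 0)
    (hind : c ∉ Submodule.span F₀ (Set.range ![a])) (h : ∀ l : F, InE Q K (T a) (l • T c)) :
    ∀ l : F, Coef Q T Q₀ K l := by
  have one_move : ∀ a c c', Q₀ a = 0 → Q₀ c = 0 → Q₀ c' = 0 → ⟪a, c⟫₀ = 0 → ⟪a, c'⟫₀ = 0 → ⟪c, c'⟫₀ = 0 →
      c ∉ Submodule.span F₀ (Set.range ![a]) → (∀ l : F, InE Q K (T a) (l • T c)) →
      ∀ l : F, InE Q K (T a) (l • T c') := by
    intro a c c' ha hc hc' hac hac' hcc hind h l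
    by_cases hind' : c' ∈ Submodule.span F₀ (Set.range ![a, c])
    · obtain ⟨x, y, e⟩ := OSim.mem_span2 S.D hind'
      have h1 := InE.shift S (T_iso S ha) (by rw [smul_right S, T_orth S hac, mul_zero]) (l * (x : F)) (h (l * (y : F)))
      convert h1 using 1
      rw [e, S.T_add, S.T_smul, S.T_smul]
      module
    have hcs : c ∉ Submodule.span F₀ (Set.range ![a, c' - c]) := fun hm => by
      obtain ⟨x, y, e⟩ := OSim.mem_span2 S.D hm
      by_cases hy : y = 0
      · refine hind ?_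
        rw [e, hy, zero_smul, add_zero]
        exact Submodule.smul_mem _ _ (Submodule.subset_span ⟨0, rfl⟩)
      refine hind' ?_
      have h' : y • c' = (1 + y) • c + (-x) • a := by linear_combination (norm := module) -e
      rw [show c' = y⁻¹ • ((1 + y) • c + (-x) • a) by rw [← h', smul_smul, inv_mul_cancel₀ hy, one_smul]]
      exact Submodule.smul_mem _ _ (add_mem (Submodule.smul_mem _ _ (Submodule.subset_span ⟨1, rfl⟩))
        (Submodule.smul_mem _ _ (Submodule.subset_span ⟨0, rfl⟩)))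
    obtain ⟨u, hu, hus, huc⟩ := iso_dual S (s := ![a, c' - c]) (w := c) hc (fun i => by
      fin_cases i
      · change ⟪c, a⟫₀ = 0
        rw [OSim.symm S.D]; exact hac
      · change ⟪c, c' - c⟫₀ = 0
        rw [OSim.sub_right S.D, hcc, OSim.self_zero S.D hc, sub_zero]) hcs
    have hua : ⟪u, a⟫₀ = 0 := hus 0
    have huw : ⟪u, c' - c⟫₀ = 0 := hus 1
    obtain ⟨k, hk, hkv⟩ := S.base u (c' - c) hu huw
    have e1 : (k : Matrix ι ι F) *ᵥ T a = T a := push_apply S (T_orth S huw) hkv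
      (T_orth S (by rw [OSim.symm S.D]; exact hua))
      (T_orth S (by rw [OSim.sub_right S.D, hac', hac, sub_self]))
    have e2 : (k : Matrix ι ι F) *ᵥ T c = T c' := by
      have hQ0 : Q₀ (c' - c) = 0 := by
        rw [sub_eq_add_neg, OSim.quad_sum S.D, ← neg_one_smul F₀ c, OSim.quad_smul S.D, hc', hc,
          OSim.smul_right S.D, OSim.symm S.D c' c, hcc]
        ring
      rw [hkv, eichler, S.hT, hQ0, T_polar S c u, OSim.symm S.D c u, huc, T_orth S (u := c) (w := c' - c)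
        (by rw [OSim.sub_right S.D, hcc, OSim.self_zero S.D hc, sub_self]), Subfield.coe_one, one_smul,
        Subfield.coe_zero, zero_mul, add_zero, zero_smul, sub_zero, ← S.T_add, add_sub_cancel]
    have := InE.conj S (h l) hk
    rwa [e1, Matrix.mulVec_smul, e2] at this
  have move : ∀ a c c', Q₀ a = 0 → Q₀ c = 0 → Q₀ c' = 0 → ⟪a, c⟫₀ = 0 → ⟪a, c'⟫₀ = 0 →
      c ∉ Submodule.span F₀ (Set.range ![a]) → (∀ l : F, InE Q K (T a) (l • T c)) →
      ∀ l : F, InE Q K (T a) (l • T c') := by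
    intro a c c' ha hc hc' hac hac' hind h
    by_cases hcc : ⟪c, c'⟫₀ = 0
    · exact one_move a c c' ha hc hc' hac hac' hcc hind h
    obtain ⟨b, hb, hbs, hbt⟩ := OSim.exists_iso_wide S.D ![a, c, c'] ![a] (by have := S.big; omega)
    have hab : ⟪a, b⟫₀ = 0 := by rw [OSim.symm S.D]; exact hbs 0
    exact one_move a b c' ha hb hc' hab hac' (hbs 2) hbt
      (one_move a c b ha hc hb hac hab (by rw [OSim.symm S.D]; exact hbs 1) hind h)
  have flip : ∀ {a c : ι → F₀}, Q₀ a = 0 → Q₀ c = 0 → ⟪a, c⟫₀ = 0 → (∀ l : F, InE Q K (T a) (l • T c)) →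
      ∀ l : F, InE Q K (T c) (l • T a) := by
    intro a c ha hc hac h l
    have h1 := InE.scale S (InE.swap S (T_iso S ha) (by rw [S.hQ.smul, T_iso S hc, mul_zero]) (h l))
    have h2 := InE.neg S (T_iso S hc) (by
      rw [smul_right S, neg_right S, T_orth S (by rw [OSim.symm S.D]; exact hac), neg_zero, mul_zero]) h1
    rwa [smul_neg, neg_neg] at h2
  intro l a' c' ha' hc' hac'
  by_cases ha'0 : a' = 0
  · rw [ha'0, T_zero S]
    exact ⟨1, one_mem K, fun x => by simp [eichler, zero_right S, smul_right S]⟩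
  have notmem : ∀ {x b : ι → F₀}, x ≠ 0 → b ∉ Submodule.span F₀ (Set.range ![x]) →
      x ∉ Submodule.span F₀ (Set.range ![b]) := fun {x b} hx hb hm => by
    obtain ⟨k, hk⟩ := OSim.mem_span1 S.D hm
    have hk0 : k ≠ 0 := fun e => hx (by rw [hk, e, zero_smul])
    refine hb ?_
    rw [show b = k⁻¹ • x by rw [hk, smul_smul, inv_mul_cancel₀ hk0, one_smul]]
    exact Submodule.smul_mem _ _ (Submodule.subset_span ⟨0, rfl⟩)
  obtain ⟨b, hb, hbs, hbt⟩ := OSim.exists_iso_wide S.D ![a, a'] ![a, a'] (by have := S.big; omega)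
  have hab : ⟪a, b⟫₀ = 0 := by rw [OSim.symm S.D]; exact hbs 0
  have hab' : ⟪a', b⟫₀ = 0 := by rw [OSim.symm S.D]; exact hbs 1
  have hb1 : b ∉ Submodule.span F₀ (Set.range ![a]) := fun hm => hbt (Submodule.span_mono (by simp) hm)
  have hb2 : b ∉ Submodule.span F₀ (Set.range ![a']) := fun hm => hbt (Submodule.span_mono (by simp) hm)
  have h1 := move a c b ha hc hb hac hab hind h
  have h2 := move b a a' hb ha ha' (hbs 0) (hbs 1) (notmem ha0 hb1) (flip ha hb hab h1)
  exact move a' b c' ha' hb hc' hab' hac' hb2 (flip hb ha' (hbs 1) h2) l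

/-- Without a full root group everything is proportional to rational. -/
theorem all_good {r : ℕ} (hr : r.Prime) (hcard : Fintype.card F = Nat.card F₀ ^ r)
    (hC : ¬ ∀ l : F, Coef Q T Q₀ K l) {g : GL ι F} (hg : g ∈ K) : Good T g := by
  classical
  refine good_of_lines S hg fun a b ha hb hab hbn ha0 => ?_
  obtain ⟨u, hu⟩ : ∃ u, u = (g : Matrix ι ι F) *ᵥ T a := ⟨_, rfl⟩
  obtain ⟨y, hy⟩ : ∃ y, y = (g : Matrix ι ι F) *ᵥ T b := ⟨_, rfl⟩
  rw [← hu, ← hy]
  have hQu : Q u = 0 := by rw [hu, S.iso g hg]; exact T_iso S ha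
  have hQy : Q y = 0 := by rw [hy, S.iso g hg]; exact T_iso S hb
  have huy : ⟪u, y⟫ = 0 := by rw [hu, hy, iso_polar S hg]; exact T_orth S hab
  have hx : ∀ t : F₀, InE Q K u ((t : F) • y) := fun t => by
    have := InE.conj S (S.base a (t • b) ha (by rw [OSim.smul_right S.D, hab, mul_zero])) hg
    rwa [S.T_smul, Matrix.mulVec_smul, ← hu, ← hy] at this
  obtain ⟨ψ, hψ⟩ : ∃ ψ : (ι → F₀) → (ι → F₀) → F,
      ∀ p q, ψ p q = ⟪u, T p⟫ * ⟪y, T q⟫ - ⟪u, T q⟫ * ⟪y, T p⟫ := ⟨_, fun _ _ => rfl⟩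
  have hspecial : ∀ p q, Q₀ p = 0 → Q₀ q = 0 → ⟪p, q⟫₀ = 0 →
      ψ p q ∈ F₀ ∨ (Nat.card F₀ = 3 ∧ ψ p q ^ 2 = -1) := by
    intro p q hp hq hpq
    by_contra hcon
    push Not at hcon
    obtain ⟨hn, hex⟩ := hcon
    by_cases hqn : q ∈ Submodule.span F₀ (Set.range ![p])
    · obtain ⟨k, hk⟩ := OSim.mem_span1 S.D hqn
      refine hn ?_
      rw [hψ, hk, S.T_smul, smul_right S, smul_right S]
      convert zero_mem F₀ using 1
      ring
    have hp0 : p ≠ 0 := fun e => hn (by rw [hψ, e, T_zero S, zero_right S, zero_right S]; simp)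
    exact hC (coef_of_full S hp hq hpq hp0 hqn fun l =>
      full_of_opposite S hr hcard hp hq hpq hQu hQy huy hx (hψ p q) hn
        (or_iff_not_imp_left.mpr fun h3 => hex (not_not.mp h3)) l)
  have hind : ∀ c d : F, c • u + d • y = 0 → c = 0 ∧ d = 0 := fun c d h => by
    obtain ⟨z, hzs, hzb⟩ := OSim.exists_sep S.D hbn
    have hbc : ⟪z, a⟫₀ = 0 := hzs 0
    have hd : d = 0 := by
      have h1 := congrArg (fun x => ⟪x, (g : Matrix ι ι F) *ᵥ T z⟫) h
      simp only [add_left S, smul_left S, hu, hy, iso_polar S hg, T_polar S, OSim.symm S.D a z, hbc,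
        OSim.symm S.D b z, hzb, Subfield.coe_zero, Subfield.coe_one, mul_zero, mul_one, zero_add, zero_left S] at h1
      exact h1
    rw [hd, zero_smul, add_zero] at h
    refine ⟨(smul_eq_zero.mp h).resolve_right fun e => ha0 (T_injective S (gl_mulVec_injective g ?_)), hd⟩
    dsimp only
    rw [← hu, e, Matrix.mulVec_zero]
  suffices hlam : ∃ lam : F, ∀ p q, Q₀ p = 0 → Q₀ q = 0 → ⟪p, q⟫₀ = 0 → ∃ c : F₀, ψ p q = (c : F) * lam by
    obtain ⟨lam, hl⟩ := hlam
    exact rational_line S hind fun p q hp hq hpq => by rw [← hψ]; exact hl p q hp hq hpq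
  by_cases h3 : Nat.card F₀ = 3
  swap
  · exact ⟨1, fun p q hp hq hpq =>
      ⟨⟨_, (hspecial p q hp hq hpq).resolve_right fun h => h3 h.1⟩, (mul_one _).symm⟩⟩
  have h30 : (3 : F₀) = 0 := by
    have h := FiniteField.cast_card_eq_zero F₀
    rw [← Nat.card_eq_fintype_card, h3] at h
    exact_mod_cast h
  have h30F : (3 : F) = 0 := (map_ofNat F₀.subtype 3).symm.trans ((congrArg F₀.subtype h30).trans (map_zero _))
  have cube : ∀ c : F₀, ((c : F)) ^ 3 = c := fun c => by
    have h := FiniteField.pow_card c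
    rw [← Nat.card_eq_fintype_card, h3] at h
    exact_mod_cast congrArg Subtype.val h
  have mem_of_cube : ∀ x : F, x ^ 3 = x → x ∈ F₀ := fun x hx => by
    have h : x * ((x - 1) * (x + 1)) = 0 := by linear_combination hx
    rcases mul_eq_zero.mp h with h | h
    · rw [h]; exact zero_mem _
    rcases mul_eq_zero.mp h with h | h
    · rw [sub_eq_zero.mp h]; exact one_mem _
    · rw [eq_neg_of_add_eq_zero_left h]; exact neg_mem (one_mem _)

  let B : F → ((ι → F₀) →ₗ[F₀] (ι → F₀) →ₗ[F₀] F) := fun s => LinearMap.mk₂ F₀ (fun p q => ψ p q ^ 3 + s * ψ p q)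
    (fun p p' q => by
      simp only [hψ, S.T_add, add_right S]
      linear_combination ((⟪u, T p⟫ * ⟪y, T q⟫ - ⟪u, T q⟫ * ⟪y, T p⟫) ^ 2 *
        (⟪u, T p'⟫ * ⟪y, T q⟫ - ⟪u, T q⟫ * ⟪y, T p'⟫) + (⟪u, T p⟫ * ⟪y, T q⟫ - ⟪u, T q⟫ * ⟪y, T p⟫) *
        (⟪u, T p'⟫ * ⟪y, T q⟫ - ⟪u, T q⟫ * ⟪y, T p'⟫) ^ 2) * h30F)
    (fun c p q => by
      simp only [hψ, S.T_smul, smul_right S, Subfield.smul_def, smul_eq_mul]
      linear_combination ((⟪u, T p⟫ * ⟪y, T q⟫ - ⟪u, T q⟫ * ⟪y, T p⟫) ^ 3) * cube c)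
    (fun p q q' => by
      simp only [hψ, S.T_add, add_right S]
      linear_combination ((⟪u, T p⟫ * ⟪y, T q⟫ - ⟪u, T q⟫ * ⟪y, T p⟫) ^ 2 *
        (⟪u, T p⟫ * ⟪y, T q'⟫ - ⟪u, T q'⟫ * ⟪y, T p⟫) + (⟪u, T p⟫ * ⟪y, T q⟫ - ⟪u, T q⟫ * ⟪y, T p⟫) *
        (⟪u, T p⟫ * ⟪y, T q'⟫ - ⟪u, T q'⟫ * ⟪y, T p⟫) ^ 2) * h30F)
    (fun c p q => by
      simp only [hψ, S.T_smul, smul_right S, Subfield.smul_def, smul_eq_mul]
      linear_combination ((⟪u, T p⟫ * ⟪y, T q⟫ - ⟪u, T q⟫ * ⟪y, T p⟫) ^ 3) * cube c)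
  have hB : ∀ s p q, B s p q = ψ p q ^ 3 + s * ψ p q := fun s p q => rfl
  have halt : ∀ s p, B s p p = 0 := fun s p => by rw [hB, hψ, sub_self]; ring
  rcases one_zero S (halt (-1)) (halt 1) (fun p q hp hq hpq => by
      rw [hB, hB]
      rcases hspecial p q hp hq hpq with h | ⟨-, h⟩
      · exact Or.inl (by linear_combination cube ⟨_, h⟩)
      · exact Or.inr (by linear_combination (ψ p q) * h)) with h | h
  · exact ⟨1, fun p q hp hq hpq => ⟨⟨_, mem_of_cube _ (by
      have := h p q hp hq hpq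
      rw [hB] at this
      linear_combination this)⟩, (mul_one _).symm⟩⟩
  · by_cases hz : ∀ p q, Q₀ p = 0 → Q₀ q = 0 → ⟪p, q⟫₀ = 0 → ψ p q = 0
    · exact ⟨1, fun p q hp hq hpq => ⟨0, by rw [hz p q hp hq hpq, Subfield.coe_zero, zero_mul]⟩⟩
    push Not at hz
    obtain ⟨p₀, q₀, hp₀, hq₀, hpq₀, hne⟩ := hz
    refine ⟨ψ p₀ q₀, fun p q hp hq hpq => ⟨⟨ψ p q / ψ p₀ q₀, mem_of_cube _ ?_⟩, (div_mul_cancel₀ _ hne).symm⟩⟩
    have h1 := h p q hp hq hpq
    have h2 := h p₀ q₀ hp₀ hq₀ hpq₀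
    rw [hB] at h1 h2
    rw [div_pow, div_eq_div_iff (pow_ne_zero 3 hne) hne]
    linear_combination (ψ p₀ q₀) * h1 - (ψ p q) * h2

/-- A proportional element over a subfield of odd degree is rational. -/
theorem rat_of_odd {r : ℕ} (hr : Odd r) (hcard : Fintype.card F = Nat.card F₀ ^ r) {g : GL ι F} (hg : Good T g) :
    ∀ x, ∃ w, (g : Matrix ι ι F) *ᵥ T x = T w := by
  obtain ⟨μ, hμ, hμμ, h⟩ := hg
  have hq : Nat.card F₀ = Fintype.card F₀ := Nat.card_eq_fintype_card
  have hoddq : Odd (Fintype.card F₀) := Nat.odd_iff.mpr (FiniteField.odd_card_of_char_ne_two fun hc => S.two (by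
    haveI := ringChar.of_eq hc
    have h20 : (2 : F₀) = 0 := CharTwo.two_eq_zero
    exact (map_ofNat F₀.subtype 2).symm.trans ((congrArg F₀.subtype h20).trans (map_zero _))))
  obtain ⟨m, hm⟩ : Odd (Fintype.card F) := by rw [hcard, hq]; exact hoddq.pow
  obtain ⟨k, hk⟩ := hoddq
  obtain ⟨d, hd⟩ : ∃ d : F₀, (d : F) = μ * μ := ⟨⟨_, hμμ⟩, rfl⟩
  have hd0 : d ≠ 0 := fun e => mul_ne_zero hμ hμ (by rw [← hd, e]; rfl)
  -- the sign of the Frobenius on `μ`
  obtain ⟨ε, hε, hεε⟩ : ∃ ε : F, μ ^ Fintype.card F₀ = ε * μ ∧ (ε = 1 ∨ ε = -1) := by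
    have h1 : μ ^ (2 * k) * μ ^ (2 * k) = 1 := by
      have := FiniteField.pow_card_sub_one_eq_one d hd0
      rw [hk, Nat.add_sub_cancel] at this
      rw [← mul_pow, ← hd, ← SubmonoidClass.coe_pow, this, Subfield.coe_one]
    refine ⟨μ ^ (2 * k), by rw [hk, pow_succ], ?_⟩
    exact mul_self_eq_one_iff.mp h1
  have hit : ∀ n : ℕ, μ ^ Fintype.card F₀ ^ n = ε ^ n * μ := fun n => by
    induction n with
    | zero => simp
    | succ n ih =>
      rw [pow_succ, pow_mul, ih, mul_pow, hε, pow_succ, ← mul_assoc]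
      congr 2
      rcases hεε with rfl | rfl
      · simp
      · rw [← pow_mul, mul_comm n, pow_mul, Odd.neg_one_pow ⟨k, hk⟩]
  have hε1 : ε = 1 := by
    rcases hεε with e | e
    · exact e
    have h1 := hit r
    rw [← hq, ← hcard, FiniteField.pow_card, e, hr.neg_one_pow, neg_one_mul, eq_neg_iff_add_eq_zero,
      ← two_mul, mul_eq_zero] at h1
    exact absurd (h1.resolve_left S.two) hμ
  have hμ₀ : μ ∈ F₀ := by
    classical
    by_contra hbad
    obtain ⟨P, hP⟩ : ∃ P : Polynomial F, P = Polynomial.X ^ Fintype.card F₀ - Polynomial.X := ⟨_, rfl⟩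
    have hq1 : 1 < Fintype.card F₀ := Fintype.one_lt_card
    have hP0 : P ≠ 0 := hP ▸ FiniteField.X_pow_card_sub_X_ne_zero F hq1
    have hPd : P.natDegree = Fintype.card F₀ := hP ▸ FiniteField.X_pow_card_sub_X_natDegree_eq F hq1
    have hsub : insert μ (Finset.univ.image (fun x : F₀ => (x : F))) ⊆ P.roots.toFinset := by
      intro x hx
      rw [Multiset.mem_toFinset, Polynomial.mem_roots hP0, Polynomial.IsRoot, hP]
      rw [Finset.mem_insert, Finset.mem_image] at hx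
      rcases hx with rfl | ⟨y, -, rfl⟩
      · simp [hε, hε1]
      · simp [← SubmonoidClass.coe_pow, FiniteField.pow_card]
    have h1 := Finset.card_le_card hsub
    rw [Finset.card_insert_of_notMem (by simpa using hbad), Finset.card_image_of_injective _ Subtype.val_injective,
      Finset.card_univ] at h1
    have h2 := P.roots.toFinset_card_le
    have h3 := Polynomial.card_roots' P
    omega
  intro x
  obtain ⟨w, hw⟩ := h x
  exact ⟨(⟨μ, hμ₀⟩ : F₀) • w, by rw [hw, S.T_smul]⟩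

end

/-- The subfield group is maximal. -/
theorem isMaximal {Q : (ι → F) → F} (hQ : IsNondegenerateQuadraticForm Q) (h2 : (2 : F) ≠ 0)
    (hn : 7 ≤ Fintype.card ι) {F₀ : Subfield F} {r : ℕ} (hr : r.Prime) (hodd : Odd (Fintype.card ι) ∨ Odd r)
    (hcard : Fintype.card F = Nat.card F₀ ^ r) (P : GL ι F) (hP : IsQuadFormRationalStructure Q F₀ P) :
    IsMaximalIn (omegaGL Q) (subfieldSubgroup F₀ P ⊓ omegaGL Q) := by
  classical
  obtain ⟨Qf, rfl, hPND⟩ := ONotMax.exists_qform hQ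
  haveI : Fintype F₀ := Fintype.ofFinite F₀
  have hne : F₀ ≠ ⊤ := fun e => by
    subst e
    rw [Nat.card_congr (Subfield.topEquiv (K := F)).toEquiv, Nat.card_eq_fintype_card] at hcard
    exact hr.one_lt.ne (Nat.pow_right_injective (Fintype.one_lt_card (α := F)) ((pow_one _).trans hcard))
  refine ⟨lt_of_le_of_ne inf_le_right fun e => ?_, fun K hK hKΩ => or_iff_not_imp_left.mpr fun hnK =>
    le_antisymm hKΩ ?_⟩
  · obtain ⟨N, hN, hNN, ht⟩ := OEven.exists_family hPND (by omega)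
    exact OEven.not_le_subfield_of_family hN hNN (fun t => by
      obtain ⟨g, hg, hgm, -⟩ := ht t
      exact ⟨g, hg, hgm⟩) hne P (inf_eq_right.mp e)
  let T : (ι → F₀) → ι → F := fun u => (P : Matrix ι ι F) *ᵥ fun i => (u i : F)
  have hTadd : ∀ u w, T (u + w) = T u + T w := fun u w => by
    simp only [T]
    rw [← Matrix.mulVec_add]
    congr 1
  have hTsmul : ∀ (c : F₀) u, T (c • u) = (c : F) • T u := fun c u => by
    simp only [T]
    rw [← Matrix.mulVec_smul]
    congr 1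
  have hsingle : ∀ i, (fun j => ((Pi.single i (1 : F₀) : ι → F₀) j : F)) = Pi.single i 1 := fun i => by
    funext j
    by_cases hj : j = i <;> simp [hj]
  have hTspan : ∀ v : ι → F, ∃ μ : ι → F, v = ∑ i, μ i • T (Pi.single i 1) := fun v => by
    refine ⟨((P⁻¹ : GL ι F) : Matrix ι ι F) *ᵥ v, ?_⟩
    simp only [T, hsingle, ← Matrix.mulVec_smul, ← Matrix.mulVec_sum]
    rw [← pi_eq_sum_univ' (((P⁻¹ : GL ι F) : Matrix ι ι F) *ᵥ v), gl_mulVec_inv_cancel]
  let Q₀ : (ι → F₀) → F₀ := fun u => ⟨Qf (T u), hP _ fun i => (u i).2⟩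
  have hQT : ∀ u, Qf (T u) = (Q₀ u : F) := fun u => rfl
  have hpol : ∀ u w, ((QuadraticMap.polar Q₀ u w : F₀) : F) = QuadraticMap.polar (⇑Qf) (T u) (T w) := fun u w => by
    simp only [QuadraticMap.polar, Q₀, Subfield.coe_sub, hTadd]
  have hb := hQ.polar_bilinear
  have D : OSim.Data Q₀ := by
    refine ⟨⟨fun c v => Subtype.ext ?_, ⟨fun x y v => Subtype.ext ?_, fun c x v => Subtype.ext ?_,
      fun v x y => Subtype.ext ?_, fun c v x => Subtype.ext ?_⟩, fun v hv => ?_⟩, fun e => h2 ?_, le_trans (by norm_num) hn⟩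
    · simp only [Q₀, hTsmul, hQ.smul, Subfield.coe_mul, SubmonoidClass.coe_pow]
    · rw [Subfield.coe_add, hpol, hpol, hpol, hTadd, hb.add_left]
    · rw [Subfield.coe_mul, hpol, hpol, hTsmul, hb.smul_left]
    · rw [Subfield.coe_add, hpol, hpol, hpol, hTadd, hb.add_right]
    · rw [Subfield.coe_mul, hpol, hpol, hTsmul, hb.smul_right]
    · have hv0 : T v ≠ 0 := fun e =>
        hv (funext fun i => Subtype.ext (congrFun (gl_mulVec_injective P (e.trans (Matrix.mulVec_zero _).symm)) i))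
      obtain ⟨x, hx⟩ : ∃ x, QuadraticMap.polar (⇑Qf) (T v) (T x) ≠ 0 := by
        by_contra hcon
        push Not at hcon
        obtain ⟨y, hy⟩ := (hQ.nondegenerate _ hv0).2
        obtain ⟨μ, rfl⟩ := hTspan y
        refine hy ?_
        let L : (ι → F) →ₗ[F] F :=
          { toFun := fun z => QuadraticMap.polar (⇑Qf) (T v) z, map_add' := fun a b => hb.add_right _ a b,
            map_smul' := fun c z => hb.smul_right c _ z }
        change L _ = 0
        rw [map_sum]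
        refine Finset.sum_eq_zero fun i _ => ?_
        rw [map_smul]
        change μ i • QuadraticMap.polar (⇑Qf) _ _ = 0
        rw [hcon, smul_zero]
      refine ⟨⟨x, fun e => hx ?_⟩, ⟨x, fun e => hx ?_⟩⟩
      · rw [← hpol, QuadraticMap.polar_comm, e]; rfl
      · rw [← hpol, e]; rfl
    · exact (map_ofNat F₀.subtype 2).symm.trans ((congrArg F₀.subtype e).trans (map_zero _))
  have hmem : ∀ g : GL ι F, (∀ x, ∃ w, (g : Matrix ι ι F) *ᵥ T x = T w) → g ∈ subfieldSubgroup F₀ P := fun g h => by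
    refine mem_subfieldSubgroup_of_scaled one_ne_zero fun i l => ?_
    obtain ⟨w, hw⟩ := h (Pi.single l 1)
    simp only [T] at hw
    rw [hsingle] at hw
    have h1 : ((P⁻¹ * g * P : GL ι F) : Matrix ι ι F) *ᵥ Pi.single l 1 = fun k => (w k : F) := by
      rw [gl_mul_mulVec, gl_mul_mulVec, hw, gl_inv_mulVec_cancel]
    have h2' := congrFun h1 i
    rw [Matrix.mulVec_single_one, Matrix.col_apply] at h2'
    rw [one_mul, h2']
    exact (w i).2
  have hsiegel : ∀ e v, Qf e = 0 → QuadraticMap.polar (⇑Qf) e v = 0 →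
      ∃ g ∈ omegaGL ⇑Qf, ∀ x, (g : Matrix ι ι F) *ᵥ x = eichler (⇑Qf) e v x := fun e v he hv => by
    obtain ⟨g, hg, hgx⟩ := ONotMax.exists_siegel hPND (by omega) he hv
    exact ⟨g, hg, fun x => by rw [hgx, eichler, QuadraticMap.polar_comm _ x e, QuadraticMap.polar_comm _ x v]⟩
  have S : Setup (⇑Qf) T Q₀ K :=
    { hQ := hQ
      D := D
      big := hn
      two := h2
      T_add := hTadd
      T_smul := hTsmul
      T_span := hTspan
      hT := hQT
      iso := fun k hk x => ONotMax.omega_isometry (hKΩ hk) x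
      base := fun a y ha hay => by
        obtain ⟨g, hg, hgx⟩ := hsiegel (T a) (T y) (by rw [hQT, ha]; rfl) (by rw [← hpol, hay]; rfl)
        refine ⟨g, hK ⟨hmem g fun x => ⟨eichler Q₀ a y x, ?_⟩, hg⟩, hgx⟩
        rw [hgx, eichler, eichler, ← hpol, ← hpol, hQT, ← Subfield.coe_mul, ← Subfield.coe_add, ← hTsmul, ← hTsmul,
          ← hTadd]
        exact (sub_eq_of_eq_add (by rw [← hTadd, sub_add_cancel])) }
  by_cases hC : ∀ l : F, Coef (⇑Qf) T Q₀ K l
  · -- all root elements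
    rintro _ ⟨x, hx, rfl⟩
    rw [SetLike.mem_coe, OOmega.omega_eq_map, OOmega.commutator_eq_root h2 hPND
      (by rw [Module.finrank_fintype_fun_eq_card]; omega)] at hx
    obtain ⟨y, hy, rfl⟩ := hx
    change (ORefl.toMat Qf y).1 ∈ K
    induction hy using Subgroup.closure_induction with
    | mem y hy =>
      obtain ⟨e, v, he, hv, -, hy⟩ := hy
      obtain ⟨k, hk, hkx⟩ := full S hC he hv
      convert hk using 1
      refine gl_ext_mulVec fun z => ?_
      rw [ORefl.toMat_apply, hy, ORefl.siegel_apply, hkx, eichler, QuadraticMap.polar_comm _ z e,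
        QuadraticMap.polar_comm _ z v]
    | one => rw [map_one]; exact one_mem _
    | mul a b _ _ iha ihb => rw [map_mul, Subgroup.coe_mul]; exact mul_mem iha ihb
    | inv a _ iha => rw [map_inv, Subgroup.coe_inv]; exact inv_mem iha
  exfalso
  refine hnK (le_antisymm (le_inf (fun g hg => ?_) hKΩ) hK)
  rcases hodd with hodd | hodd
  · exact hmem g (rat_of_good S P (fun u => rfl) hodd
      (mem_specialLinear_iff.mp (omegaGL_le_specialLinear (hKΩ hg))) (all_good S hr hcard hC hg))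
  · exact hmem g (rat_of_odd S hodd hcard (all_good S hr hcard hC hg))

end Cfsg.Agent.Classical.OSub7
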